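import Cfsg.Agent.Lib.Golay.Fixed

/-!
An element of order seven of `M24`: its centralizer inside the stabilizer of an invariant octad and of the fixed
points, and the absence of inverting elements.
-/
set_option autoImplicit false
set_option maxRecDepth 100000

namespace Cfsg.Agent.MonSeven5

open Cfsg Cfsg.Agent.Golay
open scoped Pointwise

/-- A permutation of order seven. -/
def sevT : List ℕ := [20, 8, 5, 4, 0, 3, 7, 18, 14, 9, 21, 10, 11, 19, 17, 15, 13, 6, 1, 12, 22, 16, 2, 23]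

/-- A permutation raising `sevT` to its square. -/
def sqT : List ℕ := [0, 18, 4, 2, 3, 20, 1, 14, 8, 9, 11, 19, 16, 12, 17, 15, 13, 7, 6, 10, 22, 21, 5, 23]

theorem sev_facts : checkAut sevT = true ∧ checkAut sqT = true ∧ powTab sevT 7 = idTab ∧
    comp sqT sevT = comp (comp sevT sevT) sqT ∧ isPermTab sevT = true ∧ isPermTab sqT = true := by
  decide +kernel

/-- The element of order seven. -/
noncomputable def pi7 : M24 := ⟨permOf sevT sev_facts.2.2.2.2.1, (tab_permOf sev_facts.2.2.2.2.1).mem_M24 sev_facts.1⟩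

/-- An element conjugating it to its square. -/
noncomputable def sq7 : M24 := ⟨permOf sqT sev_facts.2.2.2.2.2, (tab_permOf sev_facts.2.2.2.2.2).mem_M24 sev_facts.2.1⟩

theorem tab_pi7 : Tab pi7.1 sevT := tab_permOf sev_facts.2.2.2.2.1

theorem tab_sq7 : Tab sq7.1 sqT := tab_permOf sev_facts.2.2.2.2.2

theorem pi7_pow : pi7 ^ 7 = 1 := by
  apply Subtype.ext
  have h := tab_pi7.pow 7
  rw [sev_facts.2.2.1] at h
  exact tab_unique (by simpa using h) tab_one

theorem pi7_ne_one : pi7 ≠ 1 := fun h => by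
  have h1 := tab_pi7.apply (pt 0)
  rw [h] at h1
  revert h1
  decide +kernel

theorem orderOf_pi7 : orderOf pi7 = 7 :=
  haveI : Fact (Nat.Prime 7) := ⟨by norm_num⟩
  orderOf_eq_prime pi7_pow pi7_ne_one

theorem sq7_rel : sq7 * pi7 * sq7⁻¹ = pi7 ^ 2 := by
  rw [mul_inv_eq_iff_eq_mul, pow_two]
  apply Subtype.ext
  have h1 : Tab (sq7 * pi7 : M24).1 (comp sqT sevT) := tab_sq7.mul tab_pi7
  have h2 : Tab (pi7 * pi7 * sq7 : M24).1 (comp (comp sevT sevT) sqT) := (tab_pi7.mul tab_pi7).mul tab_sq7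
  rw [sev_facts.2.2.2.1] at h1
  exact tab_unique h1 h2

/-- The first invariant octad. -/
def octA : ℕ := 5275709
/-- The second invariant octad. -/
def octB : ℕ := 8798658
/-- The third invariant octad. -/
def octC : ℕ := 2702848

/-- The first orbit of length seven together with the fixed points. -/
def baseT : List ℕ := [0, 20, 22, 2, 5, 3, 4, 9, 15, 23]

theorem cycle_point : ∀ q : GolayPt, q ∈ toSet octA → q ≠ pt 15 →
    ∃ j : Fin 7, idx q = (powTab sevT j.val).getD 0 0 := by decide +kernel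

theorem base_facts : (((baseT.map pt).toFinset).card = 10) ∧ (∀ i ∈ baseT, i < 24) ∧
    pt 0 ∈ toSet octA ∧ pt 0 ≠ pt 15 ∧
    (∀ j : Fin 7, baseT.getD j.val 0 = (powTab sevT j.val).getD 0 0) ∧
    sevT.getD 9 0 = 9 ∧ sevT.getD 15 0 = 15 ∧ sevT.getD 23 0 = 23 := by decide +kernel

theorem pow_apply_zero (j : ℕ) : (pi7 ^ j).1 (pt 0) = pt ((powTab sevT j).getD 0 0) := by
  rw [SubmonoidClass.coe_pow, (tab_pi7.pow j).apply, idx_pt (by norm_num)]

/-- A permutation commuting with `pi7` which fixes the fixed points and an invariant octad is a power. -/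
theorem eq_pow_of_commute {σ : M24} (hc : σ * pi7 = pi7 * σ) (h9 : σ.1 (pt 9) = pt 9)
    (h15 : σ.1 (pt 15) = pt 15) (h23 : σ.1 (pt 23) = pt 23)
    (hO : ∀ q, q ∈ toSet octA → σ.1 q ∈ toSet octA) : ∃ k : ℕ, σ = pi7 ^ k := by
  obtain ⟨-, -, h0, h015, hb, h9', h15', h23'⟩ := base_facts
  obtain ⟨k, hk⟩ := cycle_point _ (hO _ h0) fun h => h015 (σ.1.injective (h.trans h15.symm))
  refine ⟨k.val, ?_⟩
  have hk' : σ.1 (pt 0) = (pi7 ^ k.val).1 (pt 0) := by
    rw [pow_apply_zero, ← hk, pt_idx]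
  rw [← inv_mul_eq_one]
  refine inv_mul_eq_one.2 (inv_mul_eq_one.1 ?_)
  set τ : M24 := σ⁻¹ * pi7 ^ k.val with hτ
  have hτc : Commute τ pi7 := ((show Commute σ pi7 from hc).inv_left).mul_left ((Commute.refl pi7).pow_left _)
  have hfix : ∀ i, i = 9 ∨ i = 15 ∨ i = 23 → τ.1 (pt i) = pt i := by
    intro i hi
    have hp : pi7.1 (pt i) = pt i := by
      rw [tab_pi7.apply, idx_pt (by omega)]
      rcases hi with rfl | rfl | rfl
      · rw [h9']
      · rw [h15']
      · rw [h23']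
    have hs : σ.1 (pt i) = pt i := by rcases hi with rfl | rfl | rfl <;> assumption
    rw [hτ, Subgroup.coe_mul, Equiv.Perm.mul_apply, SubmonoidClass.coe_pow,
      Equiv.Perm.pow_apply_eq_self_of_apply_eq_self hp, Subgroup.coe_inv, Equiv.Perm.coe_inv,
      Equiv.symm_apply_eq, hs]
  have h00 : τ.1 (pt 0) = pt 0 := by
    rw [hτ, Subgroup.coe_mul, Equiv.Perm.mul_apply, ← hk', Subgroup.coe_inv, Equiv.Perm.coe_inv,
      Equiv.symm_apply_apply]
  have hcyc : ∀ j : ℕ, τ.1 ((pi7 ^ j).1 (pt 0)) = (pi7 ^ j).1 (pt 0) := by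
    intro j
    have e := congrArg (fun u : M24 => u.1 (pt 0)) (hτc.pow_right j).eq
    simp only [Subgroup.coe_mul, Equiv.Perm.mul_apply, h00] at e
    exact e
  apply Subtype.ext
  refine eq_one_of_fixed τ.2 (s := (baseT.map pt).toFinset) (by rw [base_facts.1]; norm_num) ?_
  intro p hp
  rw [List.mem_toFinset, List.mem_map] at hp
  obtain ⟨i, hi, rfl⟩ := hp
  have hcase : (∃ j : Fin 7, i = baseT.getD j.val 0) ∨ i = 9 ∨ i = 15 ∨ i = 23 := by
    revert hi; revert i; decide +kernel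
  rcases hcase with ⟨j, rfl⟩ | hi
  · rw [hb j, ← pow_apply_zero]
    exact hcyc j
  · exact hfix i hi

/-- An octad with six points in `baseT`. -/
def witO : ℕ := 13771273

/-- The part of `witO` in `baseT`. -/
def witPts : List ℕ := baseT.filter fun i => witO.testBit i

/-- The masks of the octads. -/
def octList : List ℕ := ((List.range 4096).map comb).filter fun n => popc n == 8

/-- The images of the base points under a candidate inverting permutation. -/
def candImg (a b c p : ℕ) (i : ℕ) : ℕ :=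
  if i = 9 then a else if i = 15 then b else if i = 23 then c
  else (powTab sevT ((7 - baseT.idxOf i) % 7)).getD p 0

theorem cand_bad : ∀ a ∈ [9, 15, 23], ∀ b ∈ [9, 15, 23], ∀ c ∈ [9, 15, 23], a ≠ b → a ≠ c → b ≠ c →
    ∀ p ∈ List.range 24, (p ≠ 9 ∧ p ≠ 15 ∧ p ≠ 23) →
      octList.all (fun m => !(witPts.all fun i => m.testBit (candImg a b c p i))) = true := by
  decide +kernel

theorem wit_facts : inCode witO = true ∧ popc witO = 8 ∧
    (∀ i ∈ witPts, i < 24 ∧ witO.testBit i = true) ∧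
    (∀ i ∈ witPts, (i = 9 ∨ i = 15 ∨ i = 23) ∨
      i = (powTab sevT (baseT.idxOf i)).getD 0 0) ∧
    (∀ i ∈ List.range 24, sevT.getD i 0 = i → (i = 9 ∨ i = 15 ∨ i = 23)) ∧
    (∀ i ∈ witPts, baseT.idxOf i < 10) ∧ (∀ p ∈ List.range 24, ∀ j : Fin 7,
      (powTab sevT ((7 - j.val) % 7)).getD p 0 < 24) := by
  decide +kernel

/-- No element of `M24` inverts `pi7` by conjugation. -/
theorem no_inverter (σ : M24) : σ * pi7 * σ⁻¹ ≠ pi7⁻¹ := by
  intro h
  obtain ⟨w1, w2, w3, w4, w5, -, -⟩ := wit_facts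
  obtain ⟨-, -, -, -, -, h9, h15, h23⟩ := base_facts
  have hrel : σ * pi7 = pi7⁻¹ * σ := mul_inv_eq_iff_eq_mul.1 h
  have hfix : ∀ i, i = 9 ∨ i = 15 ∨ i = 23 →
      idx (σ.1 (pt i)) = 9 ∨ idx (σ.1 (pt i)) = 15 ∨ idx (σ.1 (pt i)) = 23 := by
    intro i hi
    have hp : pi7.1 (pt i) = pt i := by
      rw [tab_pi7.apply, idx_pt (by omega)]
      rcases hi with rfl | rfl | rfl
      · rw [h9]
      · rw [h15]
      · rw [h23]
    have e := congrArg (fun u : M24 => u.1 (pt i)) hrel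
    simp only [Subgroup.coe_mul, Equiv.Perm.mul_apply, hp, Subgroup.coe_inv, Equiv.Perm.coe_inv] at e
    rw [Equiv.eq_symm_apply, tab_pi7.apply] at e
    refine w5 _ (List.mem_range.2 (idx_lt _)) ?_
    have e' := congrArg idx e
    rwa [idx_pt (tab_pi7.lt (idx_lt _))] at e'
  have hp0 : idx (σ.1 (pt 0)) ≠ 9 ∧ idx (σ.1 (pt 0)) ≠ 15 ∧ idx (σ.1 (pt 0)) ≠ 23 := by
    refine ⟨?_, ?_, ?_⟩ <;> intro e
    all_goals
      have hfx : pi7.1 (σ.1 (pt 0)) = σ.1 (pt 0) := by
        rw [tab_pi7.apply, e]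
        conv_rhs => rw [← pt_idx (σ.1 (pt 0)), e]
        first | rw [h9] | rw [h15] | rw [h23]
      have e2 := congrArg (fun u : M24 => u.1 (pt 0)) hrel
      simp only [Subgroup.coe_mul, Equiv.Perm.mul_apply, Subgroup.coe_inv, Equiv.Perm.coe_inv] at e2
      rw [Equiv.eq_symm_apply] at e2
      have e3 : σ.1 (pi7.1 (pt 0)) = σ.1 (pt 0) := by
        apply pi7.1.injective
        rw [e2, hfx]
      have e4 := congrArg idx (σ.1.injective e3)
      rw [tab_pi7.apply, idx_pt (tab_pi7.lt (idx_lt _))] at e4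
      revert e4
      decide +kernel
  have hpow : ∀ j : ℕ, j < 7 → σ * pi7 ^ j = pi7 ^ ((7 - j) % 7) * σ := by
    intro j hj
    have h1 : σ * pi7 ^ j * σ⁻¹ = (pi7⁻¹) ^ j := by rw [← h, conj_pow]
    have h2 : (pi7⁻¹) ^ j = pi7 ^ ((7 - j) % 7) := by
      rw [inv_pow, inv_eq_iff_mul_eq_one, ← pow_add, ← orderOf_dvd_iff_pow_eq_one, orderOf_pi7]
      omega
    rw [← h2, ← h1, inv_mul_cancel_right]
  have himg : ∀ i ∈ witPts, idx (σ.1 (pt i)) =
      candImg (idx (σ.1 (pt 9))) (idx (σ.1 (pt 15))) (idx (σ.1 (pt 23))) (idx (σ.1 (pt 0))) i := by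
    intro i hi
    rcases w4 i hi with (rfl | rfl | rfl) | hcy
    · simp [candImg]
    · simp [candImg]
    · simp [candImg]
    · have hj : baseT.idxOf i < 7 := by
        by_contra hcon
        have hall : ∀ i ∈ witPts, i = (powTab sevT (baseT.idxOf i)).getD 0 0 → baseT.idxOf i < 7 := by
          decide +kernel
        exact hcon (hall i hi hcy)
      have hne : i ≠ 9 ∧ i ≠ 15 ∧ i ≠ 23 := by
        have hall : ∀ i ∈ witPts, baseT.idxOf i < 7 → i ≠ 9 ∧ i ≠ 15 ∧ i ≠ 23 := by decide +kernel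
        exact hall i hi hj
      rw [candImg, if_neg hne.1, if_neg hne.2.1, if_neg hne.2.2]
      have e := congrArg (fun u : M24 => u.1 (pt 0)) (hpow _ hj)
      simp only [Subgroup.coe_mul, Equiv.Perm.mul_apply, pow_apply_zero, ← hcy] at e
      rw [e, SubmonoidClass.coe_pow, (tab_pi7.pow _).apply,
        idx_pt ((tab_pi7.pow _).lt (idx_lt _))]
  have hoct : σ.1 • toSet witO ∈ octads := by
    have hmem : toSet witO ∈ octads := octad_mem_iff.2 ⟨_, w1, w2, rfl⟩
    refine ⟨(mem_setSystemAut_iff.1 σ.2) _ hmem.1, ?_⟩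
    rw [Finset.card_smul_finset]
    exact hmem.2
  obtain ⟨n, hn1, hn2, hn3⟩ := octad_mem_iff.1 hoct
  have hnmem : n ∈ octList := by
    refine List.mem_filter.2 ⟨List.mem_map.2 ⟨n % 4096, List.mem_range.2 (Nat.mod_lt _ (by norm_num)), ?_⟩, by simp [hn2]⟩
    simpa [inCode] using hn1
  have hmem3 : ∀ i, i = 9 ∨ i = 15 ∨ i = 23 → idx (σ.1 (pt i)) ∈ [9, 15, 23] := by
    intro i hi
    have := hfix i hi
    simpa using this
  have hne : ∀ i j, i < 24 → j < 24 → i ≠ j → idx (σ.1 (pt i)) ≠ idx (σ.1 (pt j)) := by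
    intro i j hi hj hij e
    have := congrArg idx (σ.1.injective (idx_injective e))
    rw [idx_pt hi, idx_pt hj] at this
    exact hij this
  have hbad := cand_bad _ (hmem3 9 (by simp)) _ (hmem3 15 (by simp)) _ (hmem3 23 (by simp))
    (hne _ _ (by norm_num) (by norm_num) (by norm_num)) (hne _ _ (by norm_num) (by norm_num) (by norm_num))
    (hne _ _ (by norm_num) (by norm_num) (by norm_num)) _ (List.mem_range.2 (idx_lt _)) hp0
  rw [List.all_eq_true] at hbad
  have hb := hbad n hnmem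
  rw [Bool.not_eq_true', List.all_eq_false] at hb
  obtain ⟨i, hi, hib⟩ := hb
  apply hib
  rw [← himg i hi]
  have hmemq : σ.1 (pt i) ∈ toSet n := by
    rw [hn3, ← Equiv.Perm.smul_def, Finset.smul_mem_smul_finset_iff, mem_toSet, idx_pt (w3 i hi).1]
    exact (w3 i hi).2
  rwa [mem_toSet] at hmemq

end Cfsg.Agent.MonSeven5
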