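import Cfsg.Agent.MonSeven5.Lattice
import Cfsg.Agent.Lib.Leech.Co1Cent.Xi

/-!
A product of two involutions of Co0 of order seven with a fixed vector of squared length 64.
-/
set_option autoImplicit false
set_option maxRecDepth 100000

namespace Cfsg.Agent.MonSeven5

open Cfsg Cfsg.Agent.Leech Cfsg.Agent.Leech.Co1Cent
open Cfsg.Agent.Golay (idx pt toSet inCode idx_lt pt_idx idx_pt checkAut isPermTab permOf tab_permOf Tab)
open scoped Pointwise

/-- The first permutation. -/
def oneT : List ℕ := [17, 10, 18, 14, 6, 3, 11, 12, 5, 15, 21, 23, 9, 16, 7, 22, 1, 13, 8, 19, 20, 4, 2, 0]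
/-- The second permutation. -/
def twoT : List ℕ := [18, 1, 5, 19, 0, 3, 6, 4, 22, 15, 2, 7, 9, 13, 23, 17, 14, 21, 11, 10, 20, 12, 16, 8]
/-- The first dodecad. -/
def dodC : ℕ := 4940770
/-- The second dodecad. -/
def dodD : ℕ := 9946275

/-- The inverse table. -/
def invTab (t : List ℕ) : List ℕ := (List.range 24).map fun k => t.idxOf k

theorem word_facts : checkAut oneT = true ∧ checkAut twoT = true ∧ isPermTab oneT = true ∧
    isPermTab twoT = true ∧ inCode dodC = true ∧ inCode dodD = true := by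
  decide +kernel

/-- Negation on a mask. -/
def epsL (n : ℕ) (l : List ℤ) : List ℤ :=
  (List.range 24).map fun k => if n.testBit k then -l.getD k 0 else l.getD k 0

/-- Rearrangement by a table. -/
def takeL (t : List ℕ) (l : List ℤ) : List ℤ := (List.range 24).map fun k => l.getD (t.getD k 0) 0

/-- The tetrads. -/
def tetNb : List (List ℕ) := (List.range 24).map fun k =>
  (List.range 24).filter fun j => tetTab.getD j 0 == tetTab.getD k 0

/-- The sextet map on lists. -/
def xiL (l : List ℤ) : List ℤ :=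
  (List.range 24).map fun k =>
    ((if tetTab.getD k 0 = 0 then -1 else 1) *
      (2 * l.getD k 0 - ((tetNb.getD k []).map fun j => l.getD j 0).sum)) / 2

/-- The conjugating word on lists. -/
def wordL (l : List ℤ) : List ℤ := xiL (takeL (invTab twoT) (xiL (takeL (invTab oneT) (xiL l))))

/-- The inverse word on lists. -/
def wordInvL (l : List ℤ) : List ℤ := xiL (takeL oneT (xiL (takeL twoT (xiL l))))

/-- The product on lists. -/
def prodL (l : List ℤ) : List ℤ := epsL dodC (wordL (epsL dodD (wordInvL l)))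

/-- A frame vector as a list. -/
def frameL (i : ℕ) : List ℤ := (List.range 24).map fun k => if k = i then 8 else 0

/-- A fixed vector of squared length 64. -/
def fixL : List ℤ :=
  [1, -1, 1, -1, 3, -1, 1, -1, -1, 3, 1, 1, 5, -1, 1, -1, 1, -1, 1, 1, -1, 1, -1, 1]

/-- The mask of the fixed vector. -/
def fixN : ℕ :=
  (List.range 24).foldl (fun acc i => if (fixL.getD i 0 - 1) % 4 = 2 then acc + 2 ^ i else acc) 0

set_option maxHeartbeats 20000000 in
theorem list_facts : (∀ i : Fin 24, xiL (xiL (frameL i.val)) = frameL i.val) ∧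
    (∀ i : Fin 24, prodL (prodL (prodL (prodL (prodL (prodL (prodL (frameL i.val))))))) = frameL i.val) ∧
    prodL fixL = fixL ∧ latOK fixL 1 fixN ∧ sqNorm (vec fixL) = 64 ∧
    (∃ k : Fin 23, (prodL (frameL 23)).getD k.val 0 ≠ 0) := by
  refine ⟨?_, ?_, ?_, ?_, ?_, ?_⟩
  any_goals (try unfold latOK)
  all_goals decide +kernel

theorem tetNb_facts : ∀ p : GolayPt, (((tetNb.getD (idx p) []).map pt).Nodup) ∧
    ((tetNb.getD (idx p) []).map pt).toFinset = Finset.univ.filter (fun q => tetOf q = tetOf p) ∧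
    (∀ j ∈ tetNb.getD (idx p) [], j < 24) := by
  decide +kernel

theorem getD_range_map {α : Type*} (f : ℕ → α) (d : α) (p : GolayPt) :
    ((List.range 24).map f).getD (idx p) d = f (idx p) := by
  rw [List.getD_eq_getElem _ _ (by simp [idx_lt])]
  simp

theorem vec_epsL (n : ℕ) (l : List ℤ) : vec (epsL n l) = signedPerm 1 (toSet n) (vec l) := by
  funext p
  show ((List.range 24).map _).getD (idx p) 0 = _
  rw [getD_range_map]
  simp [signedPerm, vec, Equiv.Perm.one_symm]

theorem vec_takeL {t : List ℕ} {σ : Equiv.Perm GolayPt} (h : ∀ p, t.getD (idx p) 0 = idx (σ.symm p))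
    (l : List ℤ) : vec (takeL t l) = signedPerm σ ∅ (vec l) := by
  funext p
  show ((List.range 24).map _).getD (idx p) 0 = _
  rw [getD_range_map, h p]
  simp [signedPerm, vec]

theorem xiA_apply (x : GolayPt → ℤ) (p : GolayPt) : xiA x p =
    (if tetOf p = 0 then -1 else 1) * (2 * x p - ∑ q ∈ Finset.univ.filter (fun q => tetOf q = tetOf p), x q) := by
  show ∑ q, xiEnt p q * x q = _
  have h : ∀ q, xiEnt p q * x q = (if tetOf p = 0 then -1 else 1) *
      ((if p = q then 2 * x q else 0) - (if tetOf q = tetOf p then x q else 0)) := by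
    intro q
    simp only [xiEnt]
    split_ifs <;> ring
  rw [Finset.sum_congr rfl fun q _ => h q, ← Finset.mul_sum, Finset.sum_sub_distrib,
    Finset.sum_ite_eq Finset.univ p, if_pos (Finset.mem_univ _), ← Finset.sum_filter]

theorem vec_xiL (l : List ℤ) : vec (xiL l) = xiFun (vec l) := by
  funext p
  show ((List.range 24).map _).getD (idx p) 0 = xiA (vec l) p / 2
  rw [getD_range_map, xiA_apply]
  obtain ⟨hn, hf, hlt⟩ := tetNb_facts p
  have hs : ((tetNb.getD (idx p) []).map fun j => l.getD j 0).sum =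
      ∑ q ∈ Finset.univ.filter (fun q => tetOf q = tetOf p), vec l q := by
    rw [← hf, List.sum_toFinset _ hn, List.map_map]
    refine congrArg List.sum (List.map_congr_left fun j hj => ?_)
    show l.getD j 0 = l.getD (idx (pt j)) 0
    rw [idx_pt (hlt j hj)]
  rw [hs]
  rfl

/-- A vector of the lattice given by a list. -/
def Rep (v : leechLattice) (l : List ℤ) : Prop := (v : GolayPt → ℤ) = vec l

/-- The element of the first table. -/
noncomputable def one7 : M24 :=
  ⟨permOf oneT word_facts.2.2.1, (tab_permOf word_facts.2.2.1).mem_M24 word_facts.1⟩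
/-- The element of the second table. -/
noncomputable def two7 : M24 :=
  ⟨permOf twoT word_facts.2.2.2.1, (tab_permOf word_facts.2.2.2.1).mem_M24 word_facts.2.1⟩
/-- Negation on the first dodecad. -/
noncomputable def epsC : Co0 := mono 1 (toSet_mem_code word_facts.2.2.2.2.1)
/-- Negation on the second dodecad. -/
noncomputable def epsD : Co0 := mono 1 (toSet_mem_code word_facts.2.2.2.2.2)
/-- The conjugating word. -/
noncomputable def aWord : Co0 :=
  xi * Monster39.permHom two7 * xi * Monster39.permHom one7 * xi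
/-- The product of two involutions. -/
noncomputable def yWord : Co0 := epsC * (aWord * epsD * aWord⁻¹)
/-- The fixed vector. -/
noncomputable def wFix : leechLattice := ⟨vec fixL, vec_mem list_facts.2.2.2.1⟩

theorem Rep.xi {v : leechLattice} {l : List ℤ} (h : Rep v l) : Rep (Co1Cent.xi • v) (xiL l) := by
  show _ = vec (xiL l)
  rw [coe_xi_smul, vec_xiL, h]

theorem Rep.perm {v : leechLattice} {l : List ℤ} (h : Rep v l) {t : List ℕ} {σ : M24}
    (ht : ∀ p, t.getD (idx p) 0 = idx (σ.1.symm p)) : Rep (Monster39.permHom σ • v) (takeL t l) := by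
  show ((mono σ empty_mem_code • v : leechLattice) : GolayPt → ℤ) = vec (takeL t l)
  rw [coe_mono_smul, vec_takeL ht, h]

theorem Rep.eps {v : leechLattice} {l : List ℤ} (h : Rep v l) {n : ℕ} (hn : inCode n = true) :
    Rep (mono 1 (toSet_mem_code hn) • v) (epsL n l) := by
  show _ = vec (epsL n l)
  rw [coe_mono_smul, vec_epsL, h]
  rfl

theorem rep_frame (i : GolayPt) : Rep (frame i) (frameL (idx i)) := by
  funext p
  show (Pi.single i 8 : GolayPt → ℤ) p = ((List.range 24).map _).getD (idx p) 0
  rw [getD_range_map]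
  by_cases h : p = i
  · simp [h]
  · rw [Pi.single_eq_of_ne h, if_neg fun e => h (by rw [← pt_idx p, e, pt_idx])]

theorem xi_mul_xi : xi * xi = 1 := by
  refine ext_frame fun i => Subtype.ext ?_
  rw [mul_smul, one_smul, ((rep_frame i).xi).xi, rep_frame i, list_facts.1 ⟨idx i, idx_lt i⟩]

theorem tab_facts : ∀ p : GolayPt,
    (invTab oneT).getD (oneT.getD (idx p) 0) 0 = idx p ∧ (invTab twoT).getD (twoT.getD (idx p) 0) 0 = idx p := by
  decide +kernel

theorem idx_apply {σ : Equiv.Perm GolayPt} {t : List ℕ} (h : Tab σ t) (p : GolayPt)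
    (ht : ∀ q : GolayPt, t.getD (idx q) 0 < 24) : idx (σ p) = t.getD (idx p) 0 := by
  rw [h.apply, idx_pt (ht p)]

theorem tab_lt : ∀ q : GolayPt, oneT.getD (idx q) 0 < 24 ∧ twoT.getD (idx q) 0 < 24 := by decide +kernel

theorem ht_one : (∀ p, oneT.getD (idx p) 0 = idx ((one7⁻¹).1.symm p)) ∧
    (∀ p, (invTab oneT).getD (idx p) 0 = idx (one7.1.symm p)) := by
  have h : ∀ p, idx (one7.1 p) = oneT.getD (idx p) 0 := fun p =>
    idx_apply (tab_permOf word_facts.2.2.1) p fun q => (tab_lt q).1
  refine ⟨fun p => ?_, fun p => ?_⟩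
  · rw [← h]; rfl
  · conv_lhs => rw [← one7.1.apply_symm_apply p]
    rw [h, (tab_facts _).1]

theorem ht_two : (∀ p, twoT.getD (idx p) 0 = idx ((two7⁻¹).1.symm p)) ∧
    (∀ p, (invTab twoT).getD (idx p) 0 = idx (two7.1.symm p)) := by
  have h : ∀ p, idx (two7.1 p) = twoT.getD (idx p) 0 := fun p =>
    idx_apply (tab_permOf word_facts.2.2.2.1) p fun q => (tab_lt q).2
  refine ⟨fun p => ?_, fun p => ?_⟩
  · rw [← h]; rfl
  · conv_lhs => rw [← two7.1.apply_symm_apply p]
    rw [h, (tab_facts _).2]

theorem Rep.yWord {v : leechLattice} {l : List ℤ} (h : Rep v l) : Rep (yWord • v) (prodL l) := by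
  have hxi : (Co1Cent.xi)⁻¹ = Co1Cent.xi := inv_eq_of_mul_eq_one_right xi_mul_xi
  have hinv : aWord⁻¹ = Co1Cent.xi * Monster39.permHom one7⁻¹ * Co1Cent.xi *
      Monster39.permHom two7⁻¹ * Co1Cent.xi := by
    simp only [aWord, mul_inv_rev, hxi, map_inv, mul_assoc]
  rw [MonSeven5.yWord, hinv, aWord]
  simp only [mul_smul]
  exact ((((((((((((h.xi).perm ht_two.1).xi).perm ht_one.1).xi).eps word_facts.2.2.2.2.2).xi).perm
    ht_one.2).xi).perm ht_two.2).xi).eps word_facts.2.2.2.2.1)

theorem yWord_pow : yWord ^ 7 = 1 := by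
  refine ext_frame fun i => Subtype.ext ?_
  simp only [pow_succ, pow_zero, one_mul, mul_smul, one_smul]
  rw [((((((rep_frame i).yWord).yWord).yWord).yWord).yWord).yWord.yWord, rep_frame i,
    list_facts.2.1 ⟨idx i, idx_lt i⟩]

theorem wFix_fixed : yWord • wFix = wFix := by
  refine Subtype.ext ?_
  rw [(show Rep wFix fixL from rfl).yWord, list_facts.2.2.1]
  rfl

theorem sqNorm_wFix : sqNorm (wFix : GolayPt → ℤ) = 64 := list_facts.2.2.2.2.1

theorem yWord_not_center : yWord ∉ Subgroup.center Co0 := by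
  intro hc
  obtain ⟨k, hk⟩ := list_facts.2.2.2.2.2
  have h := congrFun ((rep_frame none).yWord) (pt k.val)
  have hne : pt k.val ≠ none := fun e => by
    have := congrArg idx e
    rw [idx_pt (by omega)] at this
    have h23 : idx (none : GolayPt) = 23 := by decide
    omega
  have hk24 : k.val < 24 := by omega
  have h' : ((yWord • frame none : leechLattice) : GolayPt → ℤ) (pt k.val) =
      (prodL (frameL 23)).getD k.val 0 := by
    rw [h]
    show (prodL (frameL (idx none))).getD (idx (pt k.val)) 0 = _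
    rw [idx_pt hk24]
    rfl
  apply hk
  rw [← h']
  rcases center_eq_or _ hc with e | e <;>
    simp [e, negOne_smul, frame, Pi.single_eq_of_ne hne]

end Cfsg.Agent.MonSeven5
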