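import Cfsg.Agent.MonSeven5.Structure
import Cfsg.Agent.MonSeven5.Word

/-!
An involution inverting an element of order seven in a group of Monster type.
-/
set_option autoImplicit false
set_option linter.unusedSectionVars false
set_option linter.style.haveILetI false

namespace Cfsg.Agent.MonSeven5

open Cfsg Cfsg.Agent.Leech Cfsg.Agent.Monster39
open scoped Pointwise

/-- The image in Co1 of the diagonal automorphisms. -/
noncomputable def diagImage : Subgroup Spor.Co1 where
  carrier := {t | ∃ (c : Finset GolayPt) (hc : c ∈ code), t = QuotientGroup.mk (mono 1 hc)}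
  one_mem' := ⟨∅, empty_mem_code, by rw [mono_one]; rfl⟩
  mul_mem' := by
    rintro _ _ ⟨c, hc, rfl⟩ ⟨d, hd, rfl⟩
    refine ⟨symmDiff c d, symmDiff_mem_code hc hd, ?_⟩
    rw [← QuotientGroup.mk_mul, Monster39.mono_mul_mono hc hd (symmDiff_mem_code hc hd) (by simp),
      one_mul]
  inv_mem' := by
    rintro _ ⟨c, hc, rfl⟩
    refine ⟨c, hc, ?_⟩
    rw [inv_eq_iff_mul_eq_one, ← QuotientGroup.mk_mul, Monster39.mono_mul_mono hc hc empty_mem_code
      (by simp), one_mul, mono_one]
    rfl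

theorem card_diagImage : Nat.card diagImage ≤ 2 ^ 11 := by
  classical
  have h := card_code_notMem (none : GolayPt)
  rw [← Nat.card_coe_set_eq] at h
  haveI : Finite {c | c ∈ code ∧ (none : GolayPt) ∉ c} := Subtype.finite
  rw [show 2 ^ 11 = 2048 from rfl, ← h]
  refine Nat.card_le_card_of_surjective
    (fun c => (⟨_, c.1, c.2.1, rfl⟩ : diagImage)) ?_
  rintro ⟨_, c, hc, rfl⟩
  by_cases hn : (none : GolayPt) ∈ c
  · refine ⟨⟨symmDiff c Finset.univ, symmDiff_mem_code hc univ_mem_code, by simp [Finset.mem_symmDiff, hn]⟩,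
      Subtype.ext ?_⟩
    show (QuotientGroup.mk _ : Spor.Co1) = QuotientGroup.mk _
    rw [QuotientGroup.eq]
    have e : mono 1 (symmDiff_mem_code hc univ_mem_code) * negOne = mono 1 hc := by
      refine (Monster39.mono_mul_mono _ univ_mem_code hc ?_).trans (by rw [one_mul])
      simp [symmDiff_assoc, ← Finset.bot_eq_empty]
    rw [← e, inv_mul_cancel_left]
    exact negOne_mem_center
  · exact ⟨⟨c, hc, hn⟩, rfl⟩

theorem basis_sep : (∀ b ∈ Golay.basisN, (Golay.toSet b).card = 8 ∧ Golay.inCode b = true) ∧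
    ∀ p q : GolayPt, (∀ b ∈ Golay.basisN, b.testBit (Golay.idx p) = b.testBit (Golay.idx q)) → p = q := by
  decide +kernel

/-- A permutation in `M24` moving every basis word to itself modulo complements is trivial. -/
theorem eq_one_of_fix {σ : M24}
    (h : ∀ (d : Finset GolayPt) (hd : d ∈ code) (hd' : σ.1 • d ∈ code),
      (QuotientGroup.mk (mono 1 hd') : Spor.Co1) = QuotientGroup.mk (mono 1 hd)) : σ = 1 := by
  refine Subtype.ext (Equiv.ext fun p => basis_sep.2 _ _ fun b hb => ?_)
  obtain ⟨h8, hcode⟩ := basis_sep.1 b hb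
  have hd := toSet_mem_code hcode
  have hd' : σ.1 • Golay.toSet b ∈ code := by
    have e : σ.1 • code = code := MulAction.mem_stabilizer_iff.1 σ.2
    rw [← e]
    exact Set.smul_mem_smul_set hd
  have h1 := h _ hd hd'
  rw [QuotientGroup.eq] at h1
  have h2 : σ.1 • Golay.toSet b = Golay.toSet b := by
    rcases center_eq_or _ h1 with e | e
    · exact (mono_injective (inv_mul_eq_one.1 e)).2
    · exfalso
      rw [inv_mul_eq_iff_eq_mul] at e
      have e2 : mono 1 hd' * negOne = mono 1 (symmDiff_mem_code hd' univ_mem_code) :=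
        (Monster39.mono_mul_mono hd' univ_mem_code (symmDiff_mem_code hd' univ_mem_code) (by simp)).trans
          (by rw [one_mul])
      have e3 := congrArg Finset.card (mono_injective (e.trans e2)).2
      rw [show symmDiff (σ.1 • Golay.toSet b) Finset.univ = (σ.1 • Golay.toSet b)ᶜ by
        ext; simp [Finset.mem_symmDiff], Finset.card_compl, Finset.card_smul_finset, h8] at e3
      revert e3
      decide +kernel
  have h3 : σ.1 p ∈ Golay.toSet b ↔ p ∈ Golay.toSet b := by
    conv_lhs => rw [← h2]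
    exact Finset.smul_mem_smul_finset_iff σ.1
  simpa [Bool.coe_iff_coe] using h3

variable {G : Type*} [Group G] [Finite G] {z : G}
  {Q : Subgroup (Subgroup.centralizer ({z} : Set G))} [Q.Normal]
  {e : (Subgroup.centralizer ({z} : Set G)) ⧸ Q ≃* Spor.Co1}
  {ψ : leechLattice → Q ⧸ Subgroup.center Q}

variable (M : Monster39.Setting z Q e ψ) {x : Q} (hx : ψ (frame none) = QuotientGroup.mk x) {g : G}
  (hg : g * z * g⁻¹ = qG x)
include M hx hg

theorem ne_zQ : x ≠ M.zQ := fun h =>
  M.not_mem_center (by norm_num) (by norm_num) (⟨frame none, sqNorm_frame none, hx⟩ : Monster39.Cls ψ 64 x)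
    (M.mem_center_iff.2 (Or.inr h))

theorem diag_le_image : ∀ t ∈ diagImage, t ∈ (Monster39.conjPart Q g).map (Monster39.proj e) := by
  classical
  haveI := Monster39.finiteCo1
  have hne := ne_zQ M hx hg
  have hxc := M.not_mem_center (by norm_num) (by norm_num)
    (⟨frame none, sqNorm_frame none, hx⟩ : Monster39.Cls ψ 64 x)
  set T := (Monster39.conjPart Q g).map (Monster39.proj e) with hT
  set P0 := (Subgroup.centralizer ({(x : Subgroup.centralizer ({z} : Set G))} :
    Set (Subgroup.centralizer ({z} : Set G)))).map (Monster39.proj e) with hP0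
  have hmono : ∀ (σ : M24) (c : Finset GolayPt) (hc : c ∈ code),
      (QuotientGroup.mk (mono σ hc) : Spor.Co1) ∈ P0 := by
    intro σ c hc
    have hfix : ψ (mono σ hc • frame none) = QuotientGroup.mk x := by
      rw [← hx, M.map_eq_iff]
      refine Cong.symm ((stdCross_subset _ ⟨σ.1 none, _, ?_, coe_mono_frame σ hc none⟩).2.2)
      split_ifs <;> simp
    obtain ⟨k, hk, hkx⟩ := M.conj_of_smul hxc hx hfix
    exact ⟨k, Subgroup.mem_centralizer_singleton_iff.2
      (mul_inv_eq_iff_eq_mul.1 (congrArg Subtype.val hkx)), hk⟩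
  have hnorm := M.image_normal hg (e := e)
  have hTc := M.card_image_eq hg hne
  rw [← hT] at hTc
  by_cases hbot : T ⊓ diagImage = ⊥
  · exfalso
    refine M.image_ne_bot hg hne ((eq_bot_iff).2 fun t ht => ?_)
    rw [← hT] at ht
    obtain ⟨k, hk, hkt⟩ := Subgroup.map_mono (f := Monster39.proj e) (Monster39.Setting.conjPart_le hg) ht
    obtain ⟨g0, hg0⟩ := QuotientGroup.mk_surjective (Monster39.proj e k)
    have hgf : Cong ((g0 • frame none : leechLattice) : GolayPt → ℤ) (frame none : GolayPt → ℤ) := by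
      have h2 : cj k x = x := Subtype.ext (by
        show k * x * k⁻¹ = (x : Subgroup.centralizer ({z} : Set G))
        rw [Subgroup.mem_centralizer_singleton_iff.1 hk, mul_inv_cancel_right])
      have h3 : ψ (g0 • frame none) = QuotientGroup.mk (cj k x) := M.hψ.2.2.2 k g0 hg0 (frame none) x hx
      rw [h2, ← hx] at h3
      exact (M.map_eq_iff _ _).1 h3
    obtain ⟨σ, c, hc, rfl⟩ := exists_mono_of_cong hgf
    rw [hkt] at hg0
    have hσ : σ = 1 := eq_one_of_fix fun d hd hd' => by
      have hδ : mono σ hc * mono 1 hd = mono 1 hd' * mono σ hc := by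
        have h' : symmDiff c (σ.1 • d) ∈ code := symmDiff_mem_code hc hd'
        rw [Monster39.mono_mul_mono hc hd h' rfl,
          Monster39.mono_mul_mono hd' hc h' (by simp [symmDiff_comm]), mul_one, one_mul]
      have h1 : (QuotientGroup.mk (mono 1 hd') : Spor.Co1) * (QuotientGroup.mk (mono 1 hd))⁻¹ ∈ T ⊓ diagImage := by
        refine Subgroup.mem_inf.2 ⟨?_, mul_mem ⟨_, hd', rfl⟩ (inv_mem ⟨_, hd, rfl⟩)⟩
        have h2 := mul_mem ht (hnorm _ (hmono 1 d hd) t⁻¹ (inv_mem ht))
        have e1 : t * QuotientGroup.mk (mono 1 hd) = QuotientGroup.mk (mono 1 hd') * t := by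
          rw [← hg0, ← QuotientGroup.mk_mul, ← QuotientGroup.mk_mul, hδ]
        have e2 : t * (QuotientGroup.mk (mono 1 hd) * t⁻¹ * (QuotientGroup.mk (mono 1 hd) : Spor.Co1)⁻¹) =
            QuotientGroup.mk (mono 1 hd') * (QuotientGroup.mk (mono 1 hd))⁻¹ := by
          rw [← mul_assoc, ← mul_assoc, e1, mul_inv_cancel_right]
        rwa [e2] at h2
      rw [hbot, Subgroup.mem_bot, mul_inv_eq_one] at h1
      exact h1
    have h1 : t ∈ T ⊓ diagImage := ⟨ht, c, hc, by rw [← hg0, hσ]⟩
    rwa [hbot] at h1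
  · obtain ⟨X, hX, hXo⟩ : ∃ X ∈ P0, orderOf X = 23 ∧ ∀ t ∈ diagImage, X * t * X⁻¹ ∈ diagImage := by
      refine ⟨_, hmono Monster39.shiftM ∅ empty_mem_code, ?_, ?_⟩
      · have h := orderOf_injective _ (Monster39.mathieuHom_injective 1) Monster39.shiftM
        rw [Monster39.orderOf_shiftM] at h
        rw [← h]
        congr 1
      · rintro _ ⟨d, hd, rfl⟩
        have hd' : Monster39.shiftM.1 • d ∈ code := by
          have e : Monster39.shiftM.1 • code = code := MulAction.mem_stabilizer_iff.1 Monster39.shiftM.2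
          rw [← e]
          exact Set.smul_mem_smul_set hd
        refine ⟨_, hd', mul_inv_eq_iff_eq_mul.2 ?_⟩
        rw [← QuotientGroup.mk_mul, ← QuotientGroup.mk_mul,
          Monster39.mono_mul_mono empty_mem_code hd hd' (bot_symmDiff _).symm,
          Monster39.mono_mul_mono hd' empty_mem_code hd'
            (by simp only [Finset.smul_finset_empty]; exact (symmDiff_bot _).symm), mul_one, one_mul]
    have hc := Monster39.card_of_invariant (T := T ⊓ diagImage) hXo.1
      (fun t ht => ⟨hnorm X hX t ht.1, hXo.2 t ht.2⟩) hbot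
      ((Subgroup.card_dvd_of_le inf_le_left).trans (hTc ▸ pow_dvd_pow 2 (by norm_num)))
    have heq := Subgroup.eq_of_le_of_card_ge (inf_le_right : T ⊓ diagImage ≤ diagImage) (by
      rw [hc]; exact card_diagImage)
    intro t ht
    rw [← heq] at ht
    exact ht.1

/-- Each element of the image of the conjugate part lifts to an involution or one. -/
theorem exists_invol_lift {t : Spor.Co1} (ht : t ∈ (Monster39.conjPart Q g).map (Monster39.proj e)) :
    ∃ α : Subgroup.centralizer ({z} : Set G), Monster39.proj e α = t ∧ α * α = 1 := by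
  classical
  haveI := Monster39.finiteCo1
  have hne := ne_zQ M hx hg
  by_cases ht1 : t = 1
  · exact ⟨1, by rw [map_one, ht1], mul_one 1⟩
  set B := Monster39.conjPart Q g with hB
  let xC : Subgroup.centralizer ({z} : Set G) := (x : Subgroup.centralizer ({z} : Set G))
  have hxx : xC * xC = 1 := congrArg Subtype.val (M.sq_of_64
    (⟨frame none, sqNorm_frame none, hx⟩ : Monster39.Cls ψ 64 x))
  have hxB : ∀ a ∈ B, a * xC = xC * a := fun a ha =>
    Subgroup.mem_centralizer_singleton_iff.1 (Monster39.Setting.conjPart_le hg ha)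
  have key : ∀ r : Q, (r = 1 ∨ r = M.zQ) → ∀ u : Subgroup.centralizer ({z} : Set G),
      (u : G) = g * qG r * g⁻¹ → u = 1 ∨ u = xC := by
    rintro r (rfl | rfl) u hu
    · exact Or.inl (Subtype.ext (by rw [hu]; simp [qG]))
    · exact Or.inr (Subtype.ext (hu.trans hg))
  have hsq : ∀ a ∈ B, a * a = 1 ∨ a * a = xC := by
    intro a ha
    obtain ⟨r, hr⟩ := Monster39.mem_conjPart.1 ha
    refine key (r * r) (M.qdata.squares r) _ ?_
    simp only [qG, Subgroup.coe_mul, ← hr]
    group
  have hcm : ∀ a ∈ B, ∀ c ∈ B, a * c = c * a ∨ a * c = c * a * xC := by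
    intro a ha c hc
    obtain ⟨r, hr⟩ := Monster39.mem_conjPart.1 ha
    obtain ⟨r', hr'⟩ := Monster39.mem_conjPart.1 hc
    rcases key ((r' * r)⁻¹ * (r * r')) (by
      rcases M.qdata.comm r r' with h | h
      · exact Or.inl (by rw [h, inv_mul_cancel])
      · exact Or.inr (by rw [h, inv_mul_cancel_left])) ((c * a)⁻¹ * (a * c)) (by
      simp only [qG, Subgroup.coe_mul, InvMemClass.coe_inv, ← hr, ← hr']
      group) with h | h
    · exact Or.inl (inv_mul_eq_one.1 h).symm
    · exact Or.inr (inv_mul_eq_iff_eq_mul.1 h)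
  have hxz : xC ≠ Monster39.zC z := fun h => hne (Subtype.ext h)
  have hone : ∀ u : Subgroup.centralizer ({z} : Set G), (u = 1 ∨ u = xC) →
      (u = 1 ∨ u = Monster39.zC z) → u = 1 := by
    rintro u (h | h) (h' | h')
    · exact h
    · exact h
    · exact h'
    · exact absurd (h.symm.trans h') hxz
  set D := B ⊓ Q with hD
  have hDsq : ∀ w ∈ D, w * w = 1 := fun w hw => hone _ (hsq w hw.1) (by
    rcases M.qdata.squares (⟨w, hw.2⟩ : Q) with h | h
    · exact Or.inl (congrArg Subtype.val h)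
    · exact Or.inr (congrArg Subtype.val h))
  have hDcm : ∀ v ∈ D, ∀ w ∈ D, v * w = w * v := by
    intro v hv w hw
    have := hone ((w * v)⁻¹ * (v * w)) (by
      rcases hcm v hv.1 w hw.1 with h | h
      · exact Or.inl (by rw [h, inv_mul_cancel])
      · exact Or.inr (by rw [h, inv_mul_cancel_left])) (by
      rcases M.qdata.comm (⟨v, hv.2⟩ : Q) ⟨w, hw.2⟩ with h | h
      · exact Or.inl (by
          have h' : v * w = w * v := congrArg Subtype.val h
          rw [h', inv_mul_cancel])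
      · exact Or.inr (by
          have h' : v * w = w * v * Monster39.zC z := congrArg Subtype.val h
          rw [h', inv_mul_cancel_left]))
    exact (inv_mul_eq_one.1 this).symm
  obtain ⟨r, hr, rfl⟩ := ht
  rcases hsq r hr with h | h
  · exact ⟨r, rfl, h⟩
  by_cases hex : ∃ w ∈ D, r * w ≠ w * r
  · obtain ⟨w, hw, hne'⟩ := hex
    have hrw : w * r = r * w * xC := by
      rcases hcm w hw.1 r hr with h' | h'
      · exact absurd h'.symm hne'
      · exact h'
    refine ⟨r * w, by rw [map_mul, Monster39.proj_eq_one.2 hw.2, mul_one], ?_⟩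
    calc r * w * (r * w) = r * (w * r) * w := by group
      _ = r * r * w * (xC * w) := by rw [hrw]; group
      _ = r * r * w * (w * xC) := by rw [hxB w hw.1]
      _ = r * r * (w * w) * xC := by group
      _ = 1 := by rw [h, hDsq w hw, mul_one, hxx]
  exfalso
  push Not at hex
  set R := B ⊓ Subgroup.centralizer (D : Set (Subgroup.centralizer ({z} : Set G))) with hR
  have hrR : r ∈ R := ⟨hr, Subgroup.mem_centralizer_iff.2 fun w hw => (hex w hw).symm⟩
  obtain ⟨X, hX, hXo⟩ := M.exists_order23 hg hne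
  have hinv : ∀ s ∈ R.map (Monster39.proj e), X * s * X⁻¹ ∈ R.map (Monster39.proj e) := by
    obtain ⟨k, hk, rfl⟩ := hX
    rintro _ ⟨s, hs, rfl⟩
    refine ⟨k * s * k⁻¹, ⟨Monster39.Setting.conjPart_normal hg k hk s hs.1,
      Subgroup.mem_centralizer_iff.2 fun w hw => ?_⟩, by simp⟩
    have hw' : k⁻¹ * w * k ∈ D := by
      refine Subgroup.mem_inf.2 ⟨?_, ?_⟩
      · simpa using Monster39.Setting.conjPart_normal hg k⁻¹ (inv_mem hk) w hw.1
      · simpa using (inferInstance : Q.Normal).conj_mem w hw.2 k⁻¹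
    have h1 := Subgroup.mem_centralizer_iff.1 hs.2 _ hw'
    calc w * (k * s * k⁻¹) = k * (k⁻¹ * w * k * s) * k⁻¹ := by group
      _ = k * (s * (k⁻¹ * w * k)) * k⁻¹ := by rw [h1]
      _ = _ := by group
  have hTc := M.card_image_eq hg hne
  have hle : R.map (Monster39.proj e) ≤ B.map (Monster39.proj e) := Subgroup.map_mono inf_le_left
  have hcR := Monster39.card_of_invariant hXo hinv
    (fun h0 => ht1 (by rw [← Subgroup.mem_bot, ← h0]; exact ⟨r, hrR, rfl⟩))
    ((Subgroup.card_dvd_of_le hle).trans (hTc ▸ pow_dvd_pow 2 (by norm_num)))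
  have heq := Subgroup.eq_of_le_of_card_ge hle (by rw [hcR, hTc])
  have hcent : ∀ w ∈ D, ∀ s ∈ B, s * w = w * s := by
    intro w hw s hs
    obtain ⟨s', hs', hse⟩ := heq.ge ⟨s, hs, rfl⟩
    have hd : s'⁻¹ * s ∈ D := ⟨B.mul_mem (B.inv_mem hs'.1) hs, Monster39.proj_eq_one.1 (by
      rw [map_mul, map_inv, hse, inv_mul_cancel])⟩
    have h1 : Commute w s' := Subgroup.mem_centralizer_iff.1 hs'.2 w hw
    have h2 : Commute w (s'⁻¹ * s) := hDcm w hw _ hd
    have h3 := h1.mul_right h2
    rw [mul_inv_cancel_left] at h3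
    exact h3.symm.eq
  -- the centre of the preimage has order at most four
  obtain ⟨y, hy, hyc⟩ := M.exists_back hg hne
  set A := Subgroup.centralizer ({y} : Set Q) with hA
  obtain ⟨q, hq⟩ : ∃ q : Q, q ∉ A := by
    by_contra hh
    push Not at hh
    exact hyc (Subgroup.mem_center_iff.2 fun q => Subgroup.mem_centralizer_singleton_iff.1 (hA ▸ hh q))
  set Z := A ⊓ Subgroup.centralizer (A : Set Q) with hZ
  have hqc : q ∉ Subgroup.center Q := fun h => hq (by
    rw [hA, Subgroup.mem_centralizer_singleton_iff]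
    exact (Subgroup.mem_center_iff.1 h y).symm)
  have hAi : A.index = 2 := by
    have h0 := A.card_mul_index
    rw [M.card_centQ hyc, M.card_Q] at h0
    omega
  have hqi : (Subgroup.centralizer ({q} : Set Q)).index ≤ 2 := by
    have h0 := (Subgroup.centralizer ({q} : Set Q)).card_mul_index
    rw [M.card_centQ hqc, M.card_Q] at h0
    omega
  have hsubc : Z ⊓ Subgroup.centralizer ({q} : Set Q) ≤ Subgroup.center Q := by
    rintro c ⟨⟨-, hc1⟩, hc2⟩
    refine Subgroup.mem_center_iff.2 fun d => ?_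
    have hcq : Commute c q := Subgroup.mem_centralizer_singleton_iff.1 hc2
    by_cases hd : d ∈ A
    · exact Subgroup.mem_centralizer_iff.1 hc1 d hd
    · have hqd : q⁻¹ * d ∈ A := by
        rw [Subgroup.mul_mem_iff_of_index_two hAi]
        simp [hq, hd]
      have : Commute c (q * (q⁻¹ * d)) :=
        hcq.mul_right (show Commute c (q⁻¹ * d) from (Subgroup.mem_centralizer_iff.1 hc1 _ hqd).symm)
      rw [mul_inv_cancel_left] at this
      exact this.symm.eq
  have hZ4 : Nat.card Z ≤ 4 := by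
    have h1 := Subgroup.card_le_of_le hsubc
    rw [M.hS.2.2.1.2] at h1
    have h2 := (Z ⊓ Subgroup.centralizer ({q} : Set Q)).card_mul_index
    have h3 := Z.card_mul_index
    have h4 : (Z ⊓ Subgroup.centralizer ({q} : Set Q)).index ≤ Z.index * 2 :=
      Subgroup.index_inf_le.trans (Nat.mul_le_mul_left _ hqi)
    have h5 : Nat.card (Z ⊓ Subgroup.centralizer ({q} : Set Q) : Subgroup Q) *
        (Z ⊓ Subgroup.centralizer ({q} : Set Q)).index ≤ 2 * (Z.index * 2) := Nat.mul_le_mul h1 h4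
    rw [h2, ← h3] at h5
    exact Nat.le_of_mul_le_mul_right (by linarith) (Nat.pos_of_ne_zero Subgroup.index_ne_zero_of_finite)
  have hDc : Nat.card D = 2 ^ 13 := (M.fused hg hne).card_inf
  have hback : ∀ w : D, ∃ r0 : Q, g * qG r0 * g⁻¹ = ((w : Subgroup.centralizer ({z} : Set G)) : G) ∧ r0 ∈ Z := by
    intro w
    obtain ⟨r0, hr0⟩ := Monster39.mem_conjPart.1 w.2.1
    have hmem : ∀ a : Q, a ∈ A ↔ g * qG a * g⁻¹ * z = z * (g * qG a * g⁻¹) := by
      intro a
      rw [hA, Subgroup.mem_centralizer_singleton_iff]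
      constructor
      · intro h'
        have h2 := congrArg (fun u : Q => qG u) h'
        change qG a * qG y = qG y * qG a at h2
        rw [show qG y = g⁻¹ * z * g from hy] at h2
        calc g * qG a * g⁻¹ * z = g * (qG a * (g⁻¹ * z * g)) * g⁻¹ := by group
          _ = g * (g⁻¹ * z * g * qG a) * g⁻¹ := by rw [h2]
          _ = _ := by group
      · intro h'
        apply Subtype.ext; apply Subtype.ext
        show qG a * qG y = qG y * qG a
        rw [show qG y = g⁻¹ * z * g from hy]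
        calc qG a * (g⁻¹ * z * g) = g⁻¹ * (g * qG a * g⁻¹ * z) * g := by group
          _ = g⁻¹ * (z * (g * qG a * g⁻¹)) * g := by rw [h']
          _ = _ := by group
    refine ⟨r0, hr0, (hmem r0).2 ?_, Subgroup.mem_centralizer_iff.2 fun a ha => ?_⟩
    · rw [show g * qG r0 * g⁻¹ = ((w : Subgroup.centralizer ({z} : Set G)) : G) from hr0]
      exact Subgroup.mem_centralizer_singleton_iff.1 (w : Subgroup.centralizer ({z} : Set G)).2
    · let aC : Subgroup.centralizer ({z} : Set G) :=
        ⟨g * qG a * g⁻¹, Subgroup.mem_centralizer_singleton_iff.2 ((hmem a).1 ha)⟩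
      have h1 := congrArg Subtype.val (hcent _ w.2 aC (Monster39.mem_conjPart.2 ⟨a, rfl⟩))
      change g * qG a * g⁻¹ * ((w : Subgroup.centralizer ({z} : Set G)) : G) =
        ((w : Subgroup.centralizer ({z} : Set G)) : G) * (g * qG a * g⁻¹) at h1
      rw [← show g * qG r0 * g⁻¹ = ((w : Subgroup.centralizer ({z} : Set G)) : G) from hr0] at h1
      apply Subtype.ext; apply Subtype.ext
      show qG a * qG r0 = qG r0 * qG a
      calc qG a * qG r0 = g⁻¹ * (g * qG a * g⁻¹ * (g * qG r0 * g⁻¹)) * g := by group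
        _ = g⁻¹ * (g * qG r0 * g⁻¹ * (g * qG a * g⁻¹)) * g := by rw [h1]
        _ = _ := by group
  choose f hf hfZ using hback
  have := Nat.card_le_card_of_injective (fun w => (⟨f w, hfZ w⟩ : Z)) fun v w h => by
    apply Subtype.ext; apply Subtype.ext
    rw [← hf v, ← hf w, show f v = f w from congrArg Subtype.val h]
  rw [hDc] at this
  omega

end Cfsg.Agent.MonSeven5

namespace Cfsg.Agent.MonSeven5.Cf

open Cfsg Cfsg.Agent.Leech Cfsg.Agent.Monster39
open scoped Pointwise

variable {G : Type*} [Group G] [Finite G] {z : G}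
  {Q : Subgroup (Subgroup.centralizer ({z} : Set G))} [Q.Normal]
  {e : (Subgroup.centralizer ({z} : Set G)) ⧸ Q ≃* Spor.Co1}
  {ψ : leechLattice → Q ⧸ Subgroup.center Q}
  {M : Monster39.Setting z Q e ψ} {x : Q} {b : G} (K0 : Cf M x b)
include K0

theorem exists_inverter : ∃ t : G, orderOf t = 2 ∧ t * b * t⁻¹ = b⁻¹ := by
  haveI : Fact (Nat.Prime 7) := ⟨by norm_num⟩
  haveI : Fact (Nat.Prime 2) := ⟨Nat.prime_two⟩
  obtain ⟨g, hg⟩ := isConj_iff.1 K0.x_conj.1
  have hlift : ∀ (c : Finset GolayPt) (hc : c ∈ code), ∃ α : Subgroup.centralizer ({z} : Set G),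
      Monster39.proj e α = QuotientGroup.mk (mono 1 hc) ∧ α * α = 1 := fun c hc =>
    exists_invol_lift M K0.hx hg (diag_le_image M K0.hx hg _ ⟨c, hc, rfl⟩)
  obtain ⟨α, hα, hα2⟩ := hlift _ (toSet_mem_code word_facts.2.2.2.2.1)
  obtain ⟨δ, hδ, hδ2⟩ := hlift _ (toSet_mem_code word_facts.2.2.2.2.2)
  obtain ⟨h, hh⟩ := Monster39.proj_surjective e (QuotientGroup.mk aWord)
  set β := h * δ * h⁻¹ with hβ
  have hβ2 : β * β = 1 := by
    rw [hβ, show h * δ * h⁻¹ * (h * δ * h⁻¹) = h * (δ * δ) * h⁻¹ by group, hδ2, mul_one, mul_inv_cancel]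
  set u := α * β with hu
  have hpu : Monster39.proj e u = QuotientGroup.mk yWord := by
    rw [hu, hβ, map_mul, map_mul, map_mul, map_inv, hα, hδ, hh]
    rfl
  set v := u ^ 4 with hv
  have hu28 : u ^ 28 = 1 := by
    have hmem : u ^ 7 ∈ Q := by
      rw [← Monster39.proj_eq_one (e := e), map_pow, hpu, ← QuotientGroup.mk_pow, yWord_pow,
        QuotientGroup.mk_one]
    have h4 : (⟨_, hmem⟩ : Q) ^ 4 = 1 := by
      rw [show (4 : ℕ) = 2 * 2 from rfl, pow_mul, pow_two (⟨_, hmem⟩ : Q), pow_two]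
      rcases M.qdata.squares (⟨_, hmem⟩ : Q) with h' | h' <;> rw [h']
      · exact mul_one 1
      · exact M.zQ_sq
    rw [show (28 : ℕ) = 7 * 4 from rfl, pow_mul]
    exact congrArg Subtype.val h4
  have hv7 : v ^ 7 = 1 := by rw [hv, ← pow_mul]; exact hu28
  have hv1 : v ≠ 1 := by
    intro h1
    apply yWord_not_center
    rw [← QuotientGroup.eq_one_iff]
    have e4 : (QuotientGroup.mk yWord : Spor.Co1) ^ 4 = 1 := by rw [← hpu, ← map_pow, ← hv, h1, map_one]
    have e7 : (QuotientGroup.mk yWord : Spor.Co1) ^ 7 = 1 := by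
      rw [← QuotientGroup.mk_pow, yWord_pow, QuotientGroup.mk_one]
    have := pow_gcd_eq_one.2 ⟨e4, e7⟩
    rwa [show Nat.gcd 4 7 = 1 from rfl, pow_one] at this
  have hαv : α * v * α⁻¹ = v⁻¹ := by
    have hαi : α⁻¹ = α := inv_eq_of_mul_eq_one_right hα2
    have hβi : β⁻¹ = β := inv_eq_of_mul_eq_one_right hβ2
    have h1 : α * u * α⁻¹ = u⁻¹ := by
      rw [hu, mul_inv_rev, hαi, hβi]
      calc α * (α * β) * α = α * α * (β * α) := by group
        _ = β * α := by rw [hα2, one_mul]
    rw [hv, ← conj_pow, h1, inv_pow]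
  obtain ⟨q, hq⟩ := QuotientGroup.mk_surjective (ψ wFix)
  have hcq : cj v q = q ∨ cj v q = q * M.zQ := by
    have h1 := M.hψ.2.2.2 v (yWord ^ 4) (by
      show _ = Monster39.proj e v
      rw [hv, map_pow, hpu, QuotientGroup.mk_pow]) wFix q hq.symm
    have hfix : yWord ^ 4 • wFix = wFix := by
      simp only [pow_succ, pow_zero, one_mul, mul_smul, wFix_fixed]
    rw [hfix, ← hq] at h1
    exact M.mk_eq_mk.1 h1
  have hvz : (v : G) * z = z * (v : G) := Subgroup.mem_centralizer_singleton_iff.1 v.2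
  have hvq : (v : G) * qG q = qG q * (v : G) := by
    have h1 : (v : G) * qG q * (v : G)⁻¹ = qG q ∨ (v : G) * qG q * (v : G)⁻¹ = qG q * z :=
      hcq.imp (fun h' => congrArg (fun r : Q => qG r) h') (fun h' => congrArg (fun r : Q => qG r) h')
    have h2 : Commute ((v : G) ^ 2) (qG q) := by
      refine mul_inv_eq_iff_eq_mul.1 ?_
      rcases h1 with h1 | h1
      · calc (v : G) ^ 2 * qG q * ((v : G) ^ 2)⁻¹
            = (v : G) * ((v : G) * qG q * (v : G)⁻¹) * (v : G)⁻¹ := by rw [pow_two]; group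
          _ = qG q := by rw [h1, h1]
      · calc (v : G) ^ 2 * qG q * ((v : G) ^ 2)⁻¹
            = (v : G) * ((v : G) * qG q * (v : G)⁻¹) * (v : G)⁻¹ := by rw [pow_two]; group
          _ = (v : G) * (qG q * z) * (v : G)⁻¹ := by rw [h1]
          _ = ((v : G) * qG q * (v : G)⁻¹) * ((v : G) * z * (v : G)⁻¹) := by group
          _ = qG q := by rw [h1, hvz, mul_inv_cancel_right, mul_assoc, M.zz_eq, mul_one]
    have h4 := h2.pow_left 4
    rwa [← pow_mul, show (v : G) ^ (2 * 4) = v by
      rw [show 2 * 4 = 7 + 1 from rfl, pow_succ, ← SubmonoidClass.coe_pow, hv7]; simp] at h4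
  obtain ⟨h2, hh2⟩ := M.transitive (by norm_num) (⟨wFix, sqNorm_wFix, hq.symm⟩ : Monster39.Cls ψ 64 q) K0.cls_x
  have hh2' : (h2 : G) * qG q * (h2 : G)⁻¹ = qG x := congrArg (fun r : Q => qG r) hh2
  set v' : G := (h2 : G) * v * (h2 : G)⁻¹ with hv'
  have hh2z : (h2 : G) * z * (h2 : G)⁻¹ = z := by
    rw [Subgroup.mem_centralizer_singleton_iff.1 h2.2, mul_inv_cancel_right]
  obtain ⟨c, hcz, hcx, k, hk⟩ := K0.conj_b (b' := v')
    (Subgroup.mem_centralizer_singleton_iff.1 (h2 * v * h2⁻¹).2)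
    (by
      rw [← hh2', hv']
      calc (h2 : G) * v * (h2 : G)⁻¹ * ((h2 : G) * qG q * (h2 : G)⁻¹)
          = (h2 : G) * ((v : G) * qG q) * (h2 : G)⁻¹ := by group
        _ = (h2 : G) * (qG q * (v : G)) * (h2 : G)⁻¹ := by rw [hvq]
        _ = _ := by group)
    (by
      rw [hv', show (h2 : G) * v * (h2 : G)⁻¹ = (MulAut.conj (h2 : G)).toMonoidHom (v : G) from rfl,
        orderOf_injective _ (MulAut.conj (h2 : G)).injective, Subgroup.orderOf_coe]
      exact orderOf_eq_prime hv7 hv1)
  set t : G := c * ((h2 : G) * α * (h2 : G)⁻¹) * c⁻¹ with ht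
  have ht2 : t * t = 1 := by
    rw [ht, show c * ((h2 : G) * α * (h2 : G)⁻¹) * c⁻¹ * (c * ((h2 : G) * α * (h2 : G)⁻¹) * c⁻¹) =
      c * ((h2 : G) * ((α : G) * α) * (h2 : G)⁻¹) * c⁻¹ by group,
      show (α : G) * α = 1 from congrArg Subtype.val hα2]
    group
  have hαv' : (α : G) * v * (α : G)⁻¹ = (v : G)⁻¹ := congrArg Subtype.val hαv
  have htk : t * b ^ k * t⁻¹ = (b ^ k)⁻¹ := by
    rw [← hk, hv', ht]
    calc _ = c * ((h2 : G) * ((α : G) * v * (α : G)⁻¹) * (h2 : G)⁻¹) * c⁻¹ := by group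
      _ = _ := by rw [hαv']; group
  have hbk : b ^ k ≠ 1 := by
    intro h1
    rw [← hk, hv', mul_inv_eq_one, mul_eq_left, mul_inv_eq_one, mul_eq_left] at h1
    exact hv1 (Subtype.ext h1)
  have hcop : IsCoprime k (7 : ℤ) := by
    rw [Ne, ← orderOf_dvd_iff_zpow_eq_one, K0.ord] at hbk
    exact (((by norm_num : Prime (7 : ℤ)).coprime_iff_not_dvd).2 hbk).symm
  obtain ⟨i, j, hij⟩ := hcop
  have hb : b = (b ^ k) ^ i := by
    conv_lhs => rw [← zpow_one b, ← hij]
    rw [zpow_add, mul_comm j, zpow_mul b 7 j, show b ^ (7 : ℤ) = 1 by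
      rw [show (7 : ℤ) = ((7 : ℕ) : ℤ) from rfl, zpow_natCast, ← K0.ord, pow_orderOf_eq_one],
      one_zpow, mul_one, mul_comm i, zpow_mul]
  have htb : t * b * t⁻¹ = b⁻¹ := by
    conv_lhs => rw [hb]
    rw [← conj_zpow, htk, inv_zpow, ← hb]
  refine ⟨t, orderOf_eq_prime (by rw [pow_two, ht2]) fun h1 => ?_, htb⟩
  rw [h1, one_mul, inv_one, mul_one] at htb
  have h3 : b ^ 2 = 1 := by
    rw [pow_two]
    conv_lhs => arg 2; rw [htb]
    exact mul_inv_cancel b
  rw [← orderOf_dvd_iff_pow_eq_one, K0.ord] at h3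
  omega

end Cfsg.Agent.MonSeven5.Cf
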