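import Cfsg.Agent.MonSeven5.Golay
import Cfsg.Agent.Monster39.Stabilizer

/-!
The lattice vectors fixed by the element of order seven, and the elements of Co1 they determine.
-/
set_option autoImplicit false
set_option maxRecDepth 100000
set_option linter.unusedSimpArgs false

namespace Cfsg.Agent.MonSeven5

open Cfsg Cfsg.Agent.Leech
open Cfsg.Agent.Golay (idx pt toSet inCode popc idx_lt pt_idx idx_pt)
open Cfsg.Agent.Monster39 (permHom permHom_mem_center)
open scoped Pointwise

/-- A vector from a list of coordinates. -/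
def vec (l : List ℤ) : GolayPt → ℤ := fun p => l.getD (idx p) 0

theorem toSet_mem_code {n : ℕ} (hn : inCode n = true) : toSet n ∈ code :=
  Golay.mem_supports_iff.2 ⟨n, hn, rfl⟩

/-- A test for membership in the lattice with the parameters given. -/
def latOK (l : List ℤ) (m : ℤ) (n : ℕ) : Prop :=
  inCode n = true ∧ (∀ p, (4 : ℤ) ∣ vec l p - m - 2 * bit (toSet n) p) ∧
    (8 : ℤ) ∣ (∑ p, vec l p) - 4 * m

instance (l : List ℤ) (m : ℤ) (n : ℕ) : Decidable (latOK l m n) := by unfold latOK; infer_instance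

theorem vec_mem {l : List ℤ} {m : ℤ} {n : ℕ} (h : latOK l m n) : vec l ∈ leechLattice :=
  mem_lattice_iff.2 ⟨m, toSet n, toSet_mem_code h.1, h.2.1, h.2.2⟩

/-- Four times a sum of two unit vectors. -/
def pairL (i j : ℕ) : List ℤ := (List.range 24).map fun k => if k = i ∨ k = j then 4 else 0

/-- Twice the indicator of a mask. -/
def octL (n : ℕ) : List ℤ := (List.range 24).map fun k => if n.testBit k then 2 else 0

/-- A fixed vector of squared length 64 with odd coordinates. -/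
def oddL : List ℤ := (List.range 24).map fun k => if k = 23 then 5 else if k = 9 ∨ k = 15 then -3 else 1

theorem lat_facts : latOK (pairL 9 15) 0 0 ∧ latOK (pairL 9 23) 0 0 ∧ latOK (pairL 15 23) 0 0 ∧
    latOK (octL octA) 0 octA ∧ latOK (octL octB) 0 octB ∧ latOK (octL octC) 0 octC ∧
    (∃ n, (n = 0 ∨ n = 16777215) ∧ latOK oddL 1 n) := by
  refine ⟨?_, ?_, ?_, ?_, ?_, ?_, ?_⟩
  any_goals (unfold latOK; decide +kernel)
  exact ⟨0, Or.inl rfl, by unfold latOK; decide +kernel⟩

/-- The vector `4(e₉ + e₁₅)`. -/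
def v915 : leechLattice := ⟨_, vec_mem lat_facts.1⟩
/-- The vector `4(e₉ + e₂₃)`. -/
def v923 : leechLattice := ⟨_, vec_mem lat_facts.2.1⟩
/-- The vector `4(e₁₅ + e₂₃)`. -/
def v1523 : leechLattice := ⟨_, vec_mem lat_facts.2.2.1⟩
/-- The vector on the first octad. -/
def vA : leechLattice := ⟨_, vec_mem lat_facts.2.2.2.1⟩
/-- The vector on the second octad. -/
def vB : leechLattice := ⟨_, vec_mem lat_facts.2.2.2.2.1⟩
/-- The vector on the third octad. -/
def vC : leechLattice := ⟨_, vec_mem lat_facts.2.2.2.2.2.1⟩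
/-- The odd vector. -/
noncomputable def wOdd : leechLattice :=
  ⟨vec oddL, by obtain ⟨n, -, h⟩ := lat_facts.2.2.2.2.2.2; exact vec_mem h⟩

/-- The six vectors. -/
def sixVecs : List leechLattice := [v915, v923, v1523, vA, vB, vC]

theorem coord_facts :
    (∀ l ∈ [pairL 9 15, pairL 9 23, pairL 15 23, octL octA, octL octB, octL octC],
      sqNorm (vec l) = 32 ∧ ∀ p, vec l (pt (sevT.getD (idx p) 0)) = vec l p) ∧
    sqNorm (vec oddL) = 64 ∧ (∀ p, vec oddL (pt (sevT.getD (idx p) 0)) = vec oddL p) ∧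
    vec oddL none = 5 := by
  decide +kernel

theorem sqNorm_six : ∀ v ∈ sixVecs, sqNorm (v : GolayPt → ℤ) = 32 := by
  intro v hv
  simp only [sixVecs, List.mem_cons, List.not_mem_nil, or_false] at hv
  rcases hv with rfl | rfl | rfl | rfl | rfl | rfl <;>
    exact (coord_facts.1 _ (by simp)).1

theorem sqNorm_wOdd : sqNorm (wOdd : GolayPt → ℤ) = 64 := coord_facts.2.1

theorem fixed_of_table {v : leechLattice} (h : ∀ p, (v : GolayPt → ℤ) (pt (sevT.getD (idx p) 0)) = (v : GolayPt → ℤ) p) :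
    permHom pi7 • v = v := by
  refine Subtype.ext (funext fun q => ?_)
  have e : ((permHom pi7 • v : leechLattice) : GolayPt → ℤ) q = (v : GolayPt → ℤ) (pi7.1.symm q) := by
    show ((mono pi7 empty_mem_code • v : leechLattice) : GolayPt → ℤ) q = _
    rw [coe_mono_smul]; simp [signedPerm]
  rw [e, ← h (pi7.1.symm q), ← tab_pi7.apply, Equiv.apply_symm_apply]

theorem pi_fix_six : ∀ v ∈ sixVecs, permHom pi7 • v = v := by
  intro v hv
  simp only [sixVecs, List.mem_cons, List.not_mem_nil, or_false] at hv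
  rcases hv with rfl | rfl | rfl | rfl | rfl | rfl <;>
    exact fixed_of_table (coord_facts.1 _ (by simp)).2

theorem pi_fix_wOdd : permHom pi7 • wOdd = wOdd := fixed_of_table coord_facts.2.2.1

theorem pi_fix_frame : permHom pi7 • frame none = frame none := by
  refine fixed_of_table ?_
  decide +kernel

theorem dot_frame_wOdd : ¬ (16 : ℤ) ∣ dotInt (frame none : GolayPt → ℤ) (wOdd : GolayPt → ℤ) := by
  show ¬ (16 : ℤ) ∣ dotInt (Pi.single none 8 : GolayPt → ℤ) (vec oddL)
  have h : dotInt (Pi.single none 8 : GolayPt → ℤ) (vec oddL) = 8 * vec oddL none := by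
    simp [dotInt, Pi.single_apply]
  rw [h, coord_facts.2.2.2]
  norm_num

/-- An automorphism fixing the standard frame modulo 2 is monomial. -/
theorem exists_mono_of_cong {g : Co0}
    (h : Cong ((g • frame none : leechLattice) : GolayPt → ℤ) (frame none : GolayPt → ℤ)) :
    ∃ (σ : M24) (c : Finset GolayPt) (hc : c ∈ code), g = mono σ hc := by
  refine exists_eq_mono fun v hv => ?_
  rw [← stdCross_eq_class] at hv ⊢
  exact ⟨SetLike.coe_mem _, (sqNorm_smul g v).trans hv.2.1, h.symm.trans (cong_smul g hv.2.2)⟩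

theorem mk_mono_univ (σ : M24) :
    (QuotientGroup.mk (mono σ univ_mem_code) : Spor.Co1) = QuotientGroup.mk (permHom σ) := by
  have h : mono σ univ_mem_code = negOne * permHom σ := by
    show _ = mono 1 univ_mem_code * mono σ empty_mem_code
    rw [Monster39.mono_mul_mono univ_mem_code empty_mem_code univ_mem_code (by simp; rfl), one_mul]
  rw [h, QuotientGroup.mk_mul, (QuotientGroup.eq_one_iff _).2 negOne_mem_center, one_mul]

/-- The image in Co1 of the element of order seven. -/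
noncomputable def P7 : Spor.Co1 := QuotientGroup.mk (permHom pi7)

theorem P7_pow : P7 ^ 7 = 1 := by
  rw [P7, ← QuotientGroup.mk_pow, ← map_pow, pi7_pow, map_one, QuotientGroup.mk_one]

theorem P7_ne_one : P7 ≠ 1 := fun h =>
  pi7_ne_one (permHom_mem_center ((QuotientGroup.eq_one_iff _).1 h))

theorem commute_of_mk {σ : M24} (h : (QuotientGroup.mk (permHom σ) : Spor.Co1) * P7 = P7 * QuotientGroup.mk (permHom σ)) :
    σ * pi7 = pi7 * σ := by
  rw [P7, ← QuotientGroup.mk_mul, ← QuotientGroup.mk_mul, ← map_mul, ← map_mul, QuotientGroup.eq,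
    ← map_inv, ← map_mul] at h
  exact inv_mul_eq_one.1 (permHom_mem_center h)

theorem signedPerm_eq_or {v : leechLattice} (hv : sqNorm (v : GolayPt → ℤ) = 32) {σ : M24}
    {c : Finset GolayPt} (hc : c ∈ code)
    (h : Cong ((mono σ hc • v : leechLattice) : GolayPt → ℤ) (v : GolayPt → ℤ)) :
    (∀ q, (v : GolayPt → ℤ) q ≠ 0 → (v : GolayPt → ℤ) (σ.1.symm q) ≠ 0) ∧
    ∃ ε : Bool, ∀ q, (v : GolayPt → ℤ) q ≠ 0 → (v : GolayPt → ℤ) (σ.1.symm q) = (v : GolayPt → ℤ) q →
      (q ∈ c ↔ ε = true) := by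
  rcases cong_cases noRoots (SetLike.coe_mem _) (by rw [sqNorm_smul, hv]; norm_num)
      (by rw [hv]; norm_num) h with e | e | ⟨e, -⟩
  · refine ⟨fun q hq => ?_, false, fun q hq hs => ?_⟩
    · have := congrFun e q
      rw [coe_mono_smul] at this
      simp only [signedPerm] at this
      intro h0
      rw [h0] at this
      split_ifs at this <;> omega
    · have := congrFun e q
      rw [coe_mono_smul] at this
      simp only [signedPerm, hs] at this
      refine ⟨fun hqc => ?_, fun hh => absurd hh (by simp)⟩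
      rw [if_pos hqc] at this
      omega
  · refine ⟨fun q hq => ?_, true, fun q hq hs => ?_⟩
    · have := congrFun e q
      rw [coe_mono_smul] at this
      simp only [signedPerm, Pi.neg_apply] at this
      intro h0
      rw [h0] at this
      split_ifs at this <;> omega
    · have := congrFun e q
      rw [coe_mono_smul] at this
      simp only [signedPerm, hs, Pi.neg_apply] at this
      refine ⟨fun _ => rfl, fun _ => ?_⟩
      by_contra hqc
      rw [if_neg hqc] at this
      omega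
  · rw [sqNorm_smul, hv] at e
    omega

theorem support_oct : ∀ n ∈ [octA, octB, octC], ∀ q : GolayPt,
    (n.testBit (idx q) = true ↔ vec (octL n) q ≠ 0) ∧
      (n.testBit (idx q) = true → vec (octL n) q = 2) := by
  intro n hn q
  simp only [List.mem_cons, List.not_mem_nil, or_false] at hn
  rcases hn with rfl | rfl | rfl <;> revert q <;> decide +kernel

theorem support_pair :
    (∀ q, vec (pairL 9 15) q ≠ 0 → (q = pt 9 ∨ q = pt 15)) ∧
    (∀ q, vec (pairL 9 23) q ≠ 0 → (q = pt 9 ∨ q = pt 23)) ∧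
    (∀ q, vec (pairL 15 23) q ≠ 0 → (q = pt 15 ∨ q = pt 23)) ∧
    (vec (pairL 9 15) (pt 9) = 4 ∧ vec (pairL 9 15) (pt 15) = 4 ∧ vec (pairL 9 23) (pt 9) = 4 ∧
      vec (pairL 9 23) (pt 23) = 4 ∧ vec (pairL 15 23) (pt 15) = 4 ∧ vec (pairL 15 23) (pt 23) = 4) ∧
    pt 9 ≠ pt 15 ∧ pt 9 ≠ pt 23 ∧ pt 15 ≠ pt 23 := by
  decide +kernel

theorem support_cover : pt 15 ∈ toSet octA ∧ pt 23 ∈ toSet octB ∧ pt 9 ∈ toSet octC ∧
    (∀ q, q ∈ toSet octA ∨ q ∈ toSet octB ∨ q ∈ toSet octC) := by
  simp only [Golay.mem_toSet]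
  decide +kernel

theorem support_facts :
    (∀ q, vec (pairL 9 15) q ≠ 0 → (q = pt 9 ∨ q = pt 15)) ∧
    (∀ q, vec (pairL 9 23) q ≠ 0 → (q = pt 9 ∨ q = pt 23)) ∧
    (∀ q, vec (pairL 15 23) q ≠ 0 → (q = pt 15 ∨ q = pt 23)) ∧
    (vec (pairL 9 15) (pt 9) = 4 ∧ vec (pairL 9 15) (pt 15) = 4 ∧ vec (pairL 9 23) (pt 9) = 4 ∧
      vec (pairL 9 23) (pt 23) = 4 ∧ vec (pairL 15 23) (pt 15) = 4 ∧ vec (pairL 15 23) (pt 23) = 4) ∧
    (∀ n ∈ [octA, octB, octC], ∀ q, (q ∈ toSet n ↔ vec (octL n) q ≠ 0) ∧ (q ∈ toSet n → vec (octL n) q = 2)) ∧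
    pt 15 ∈ toSet octA ∧ pt 23 ∈ toSet octB ∧ pt 9 ∈ toSet octC ∧
    (∀ q, q ∈ toSet octA ∨ q ∈ toSet octB ∨ q ∈ toSet octC) ∧
    pt 9 ≠ pt 15 ∧ pt 9 ≠ pt 23 ∧ pt 15 ≠ pt 23 := by
  obtain ⟨a, b, c, d, e⟩ := support_pair
  obtain ⟨f, g, h, i⟩ := support_cover
  exact ⟨a, b, c, d, fun n hn q => by simpa only [Golay.mem_toSet] using support_oct n hn q, f, g, h, i, e⟩

/-- An element commuting with `P7` that fixes the fixed classes lies in the cyclic group it generates. -/
theorem kernel_lemma {g : Co0}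
    (hcomm : (QuotientGroup.mk g : Spor.Co1) * P7 = P7 * QuotientGroup.mk g)
    (hf : Cong ((g • frame none : leechLattice) : GolayPt → ℤ) (frame none : GolayPt → ℤ))
    (hsix : ∀ v ∈ sixVecs, Cong ((g • v : leechLattice) : GolayPt → ℤ) (v : GolayPt → ℤ)) :
    ∃ k : ℕ, (QuotientGroup.mk g : Spor.Co1) = P7 ^ k := by
  obtain ⟨σ, c, hc, rfl⟩ := exists_mono_of_cong hf
  have key := fun v (hv : v ∈ sixVecs) => signedPerm_eq_or (sqNorm_six v hv) hc (hsix v hv)
  obtain ⟨s1, s2, s3, ⟨a1, a2, a3, a4, a5, a6⟩, sO, m15, m23, m9, cover, d1, d2, d3⟩ := support_facts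
  obtain ⟨k1, e1, g1⟩ := key v915 (by simp [sixVecs])
  obtain ⟨k2, e2, g2⟩ := key v923 (by simp [sixVecs])
  obtain ⟨k3, e3, g3⟩ := key v1523 (by simp [sixVecs])
  have f9 : σ.1.symm (pt 9) = pt 9 := by
    rcases s1 _ (k1 (pt 9) (by simp only [v915, v923, v1523]; rw [a1]; norm_num)) with h | h
    · exact h
    · rcases s2 _ (k2 (pt 9) (by simp only [v915, v923, v1523]; rw [a3]; norm_num)) with h' | h'
      · exact h'
      · exact absurd (h.symm.trans h') d3
  have f15 : σ.1.symm (pt 15) = pt 15 := by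
    rcases s1 _ (k1 (pt 15) (by simp only [v915, v923, v1523]; rw [a2]; norm_num)) with h | h
    · rcases s3 _ (k3 (pt 15) (by simp only [v915, v923, v1523]; rw [a5]; norm_num)) with h' | h'
      · exact h'
      · exact absurd (h.symm.trans h') d2
    · exact h
  have f23 : σ.1.symm (pt 23) = pt 23 := by
    rcases s2 _ (k2 (pt 23) (by simp only [v915, v923, v1523]; rw [a4]; norm_num)) with h | h
    · rcases s3 _ (k3 (pt 23) (by simp only [v915, v923, v1523]; rw [a6]; norm_num)) with h' | h'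
      · exact absurd (h.symm.trans h') d1
      · exact h'
    · exact h
  have oct : ∀ v ∈ sixVecs, ∀ n ∈ [octA, octB, octC], (v : GolayPt → ℤ) = vec (octL n) →
      (∀ q ∈ toSet n, σ.1.symm q ∈ toSet n) ∧ ∃ ε : Bool, ∀ q ∈ toSet n, (q ∈ c ↔ ε = true) := by
    intro v hv n hn he
    obtain ⟨k, ε, gε⟩ := key v hv
    rw [he] at k gε
    have hin : ∀ q ∈ toSet n, σ.1.symm q ∈ toSet n := fun q hq =>
      (sO n hn _).1.2 (k q ((sO n hn q).1.1 hq))
    exact ⟨hin, ε, fun q hq => gε q ((sO n hn q).1.1 hq)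
      (((sO n hn _).2 (hin q hq)).trans ((sO n hn q).2 hq).symm)⟩
  obtain ⟨hA, eA, gA⟩ := oct vA (by simp [sixVecs]) octA (by simp) rfl
  obtain ⟨-, eB, gB⟩ := oct vB (by simp [sixVecs]) octB (by simp) rfl
  obtain ⟨-, eC, gC⟩ := oct vC (by simp [sixVecs]) octC (by simp) rfl
  have p1 : (pt 9 ∈ c ↔ pt 15 ∈ c) :=
    (g1 (pt 9) (by simp only [v915, v923, v1523]; rw [a1]; norm_num) (by rw [f9])).trans
      (g1 (pt 15) (by simp only [v915, v923, v1523]; rw [a2]; norm_num) (by rw [f15])).symm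
  have p2 : (pt 9 ∈ c ↔ pt 23 ∈ c) :=
    (g2 (pt 9) (by simp only [v915, v923, v1523]; rw [a3]; norm_num) (by rw [f9])).trans
      (g2 (pt 23) (by simp only [v915, v923, v1523]; rw [a4]; norm_num) (by rw [f23])).symm
  have all9 : ∀ q, (q ∈ c ↔ pt 9 ∈ c) := fun q => by
    rcases cover q with h | h | h
    · exact (gA q h).trans ((gA _ m15).symm.trans p1.symm)
    · exact (gB q h).trans ((gB _ m23).symm.trans p2.symm)
    · exact (gC q h).trans (gC _ m9).symm
  have hmk : (QuotientGroup.mk (mono σ hc) : Spor.Co1) = QuotientGroup.mk (permHom σ) := by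
    by_cases h9 : pt 9 ∈ c
    · obtain rfl : c = Finset.univ := Finset.eq_univ_of_forall fun q => (all9 q).2 h9
      exact mk_mono_univ σ
    · obtain rfl : c = ∅ := Finset.eq_empty_of_forall_notMem fun q hq => h9 ((all9 q).1 hq)
      rfl
  rw [hmk] at hcomm ⊢
  have hO : ∀ q, q ∈ toSet octA → σ.1 q ∈ toSet octA := by
    intro q hq
    have him : (toSet octA).image σ.1.symm = toSet octA :=
      Finset.eq_of_subset_of_card_le (fun r hr => by
        obtain ⟨t, ht, rfl⟩ := Finset.mem_image.1 hr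
        exact hA t ht) (by rw [Finset.card_image_of_injective _ σ.1.symm.injective])
    obtain ⟨r, hr, hrq⟩ := Finset.mem_image.1 (him.symm ▸ hq : q ∈ (toSet octA).image σ.1.symm)
    rw [← hrq, Equiv.apply_symm_apply]
    exact hr
  obtain ⟨k, hk⟩ := eq_pow_of_commute (commute_of_mk hcomm)
    ((Equiv.symm_apply_eq _).1 f9).symm ((Equiv.symm_apply_eq _).1 f15).symm
    ((Equiv.symm_apply_eq _).1 f23).symm hO
  exact ⟨k, by rw [hk, map_pow, QuotientGroup.mk_pow]; rfl⟩

end Cfsg.Agent.MonSeven5
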