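import Cfsg.Agent.MonSeven5.Lattice
import Cfsg.Agent.Monster39.Forms
import Cfsg.Agent.Lib.Leech.Criterion
import Cfsg.Agent.Lib.Components.GenFitting

/-!
The centralizer of an element of order seven in a group of Monster type.
-/
set_option autoImplicit false
set_option linter.unusedSectionVars false
set_option linter.style.haveILetI false

namespace Cfsg.Agent.MonSeven5

open Cfsg Cfsg.Agent.Leech Cfsg.Agent.Monster39
open scoped Pointwise

variable {G : Type*} [Group G] [Finite G] {z : G}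
  {Q : Subgroup (Subgroup.centralizer ({z} : Set G))} [Q.Normal]
  {e : (Subgroup.centralizer ({z} : Set G)) ⧸ Q ≃* Spor.Co1}
  {ψ : leechLattice → Q ⧸ Subgroup.center Q}

/-- An element of `Q` in `G`. -/
abbrev qG (q : Q) : G := ((q : Subgroup.centralizer ({z} : Set G)) : G)

/-- The data: a conjugate `x` of `z` in `Q` on the standard frame, and `b` of order seven over `P7`. -/
structure Cf (M : Monster39.Setting z Q e ψ) (x : Q) (b : G) : Prop where
  hx : ψ (frame none) = QuotientGroup.mk x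
  ord : orderOf b = 7
  bz : b * z = z * b
  bx : b * qG x = qG x * b
  bP : ∀ hb : b ∈ Subgroup.centralizer ({z} : Set G), Monster39.proj e ⟨b, hb⟩ = P7

namespace Cf

variable {M : Monster39.Setting z Q e ψ} {x : Q} {b : G} (K0 : Cf M x b)
include K0

theorem b_mem : b ∈ Subgroup.centralizer ({z} : Set G) :=
  Subgroup.mem_centralizer_singleton_iff.2 K0.bz

/-- The element `b` in the centralizer of `z`. -/
def bC : Subgroup.centralizer ({z} : Set G) := ⟨b, K0.b_mem⟩

theorem proj_bC : Monster39.proj e K0.bC = P7 := K0.bP _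

theorem bC_pow : K0.bC ^ 7 = 1 := Subtype.ext (by
  show b ^ 7 = 1
  rw [← K0.ord, pow_orderOf_eq_one])

theorem cls_x : Monster39.Cls ψ 64 x := ⟨frame none, sqNorm_frame none, K0.hx⟩

theorem x_not_center : x ∉ Subgroup.center Q := M.not_mem_center (by norm_num) (by norm_num) K0.cls_x

theorem x_conj : IsConj z (qG x) ∧ qG x ≠ z := (M.isConj_iff_cls x).2 K0.cls_x

/-- An element fixed by `b` up to `z` is fixed. -/
theorem fix_of_mod {q : Q} (h : cj K0.bC q = q ∨ cj K0.bC q = q * M.zQ) : b * qG q = qG q * b := by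
  have hbz : b * z * b⁻¹ = z := by rw [K0.bz, mul_inv_cancel_right]
  have hz2 : z * z = 1 := M.zz_eq
  have h1 : b * qG q * b⁻¹ = qG q ∨ b * qG q * b⁻¹ = qG q * z := by
    rcases h with h | h
    · exact Or.inl (congrArg (fun u : Q => qG u) h)
    · exact Or.inr (congrArg (fun u : Q => qG u) h)
  have h2 : Commute (b ^ 2) (qG q) := by
    refine mul_inv_eq_iff_eq_mul.1 ?_
    rcases h1 with h1 | h1
    · calc b ^ 2 * qG q * (b ^ 2)⁻¹ = b * (b * qG q * b⁻¹) * b⁻¹ := by rw [pow_two]; group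
        _ = qG q := by rw [h1, h1]
    · calc b ^ 2 * qG q * (b ^ 2)⁻¹ = b * (b * qG q * b⁻¹) * b⁻¹ := by rw [pow_two]; group
        _ = b * (qG q * z) * b⁻¹ := by rw [h1]
        _ = (b * qG q * b⁻¹) * (b * z * b⁻¹) := by group
        _ = qG q := by rw [h1, hbz, mul_assoc, hz2, mul_one]
  have h4 := h2.pow_left 4
  rwa [← pow_mul, show b ^ (2 * 4) = b by
    rw [show 2 * 4 = 7 + 1 from rfl, pow_succ, ← K0.ord, pow_orderOf_eq_one, one_mul]] at h4

/-- A fixed vector has a fixed lift. -/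
theorem exists_lift {v : leechLattice} (hv : Monster39.permHom pi7 • v = v) :
    ∃ q : Q, ψ v = QuotientGroup.mk q ∧ b * qG q = qG q * b := by
  obtain ⟨q, hq⟩ := QuotientGroup.mk_surjective (ψ v)
  refine ⟨q, hq.symm, K0.fix_of_mod ?_⟩
  have h1 := M.hψ.2.2.2 K0.bC (Monster39.permHom pi7) K0.proj_bC.symm v q hq.symm
  rw [hv, ← hq] at h1
  exact M.mk_eq_mk.1 h1

/-- An element fixed by `b` outside the centre is moved to its translate by `z` by a fixed element. -/
theorem exists_flip {w : Q} (hw : w ∉ Subgroup.center Q) (hbw : b * qG w = qG w * b) :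
    ∃ q : Q, b * qG q = qG q * b ∧ qG q * qG w * (qG q)⁻¹ = qG w * z := by
  obtain ⟨q0, hq0⟩ := M.exists_flip hw
  have hq0' : qG q0 * qG w * (qG q0)⁻¹ = qG w * z := congrArg (fun u : Q => qG u) hq0
  have hmem : ((q0 : Subgroup.centralizer ({z} : Set G)) * K0.bC) ^ 7 ∈ Q := by
    rw [← Monster39.proj_eq_one (e := e), map_pow, map_mul, Monster39.proj_eq_one.2 q0.2, one_mul,
      K0.proj_bC, P7_pow]
  let P : Q := ⟨_, hmem⟩
  refine ⟨P, K0.fix_of_mod ?_, ?_⟩
  · have hc : cj K0.bC P = q0⁻¹ * P * q0 := by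
      apply Subtype.ext
      have hcomm := (Commute.self_pow ((q0 : Subgroup.centralizer ({z} : Set G)) * K0.bC) 7).eq
      show K0.bC * ((q0 : Subgroup.centralizer ({z} : Set G)) * K0.bC) ^ 7 * K0.bC⁻¹ =
        (q0 : Subgroup.centralizer ({z} : Set G))⁻¹ * ((q0 : Subgroup.centralizer ({z} : Set G)) * K0.bC) ^ 7 * q0
      set u := ((q0 : Subgroup.centralizer ({z} : Set G)) * K0.bC) with hu
      have k1 : ∀ w, K0.bC * w * K0.bC⁻¹ =
          (q0 : Subgroup.centralizer ({z} : Set G))⁻¹ * (u * w) * K0.bC⁻¹ := fun w => by rw [hu]; group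
      have k2 : ∀ w, (q0 : Subgroup.centralizer ({z} : Set G))⁻¹ * (w * u) * K0.bC⁻¹ =
          (q0 : Subgroup.centralizer ({z} : Set G))⁻¹ * w * q0 := fun w => by rw [hu]; group
      rw [k1, hcomm, k2]
    rcases M.qdata.comm P q0 with h | h
    · exact Or.inl (by rw [hc, mul_assoc, h, inv_mul_cancel_left])
    · exact Or.inr (by rw [hc, mul_assoc, h, mul_assoc, inv_mul_cancel_left])
  · have hz2 : z * z = 1 := M.zz_eq
    have hqz : qG q0 * z * (qG q0)⁻¹ = z := by
      rw [Subgroup.mem_centralizer_singleton_iff.1 (q0 : Subgroup.centralizer ({z} : Set G)).2,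
        mul_inv_cancel_right]
    have hbwb : b * qG w * b⁻¹ = qG w := by rw [hbw, mul_inv_cancel_right]
    have hbzb : b * z * b⁻¹ = z := by rw [K0.bz, mul_inv_cancel_right]
    have hstep : ∀ n : ℕ, (qG q0 * b) ^ n * qG w * ((qG q0 * b) ^ n)⁻¹ = qG w * z ^ n := by
      intro n
      induction n with
      | zero => simp
      | succ n ih =>
        have hone : (qG q0 * b) * qG w * (qG q0 * b)⁻¹ = qG w * z := by
          calc _ = qG q0 * (b * qG w * b⁻¹) * (qG q0)⁻¹ := by group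
            _ = _ := by rw [hbwb, hq0']
        have honez : (qG q0 * b) * z ^ n * (qG q0 * b)⁻¹ = z ^ n := by
          rw [← conj_pow]
          congr 1
          calc _ = qG q0 * (b * z * b⁻¹) * (qG q0)⁻¹ := by group
            _ = _ := by rw [hbzb, hqz]
        rw [pow_succ' (qG q0 * b)]
        have key : ∀ a A W : G, a * A * W * (a * A)⁻¹ = a * (A * W * A⁻¹) * a⁻¹ := by intros; group
        calc qG q0 * b * (qG q0 * b) ^ n * qG w * (qG q0 * b * (qG q0 * b) ^ n)⁻¹
            = qG q0 * b * ((qG q0 * b) ^ n * qG w * ((qG q0 * b) ^ n)⁻¹) * (qG q0 * b)⁻¹ := key _ _ _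
          _ = (qG q0 * b * qG w * (qG q0 * b)⁻¹) * (qG q0 * b * z ^ n * (qG q0 * b)⁻¹) := by rw [ih]; group
          _ = qG w * z * z ^ n := by rw [hone, honez]
          _ = _ := by rw [mul_assoc, ← pow_succ']
    have h7 := hstep 7
    rw [show z ^ 7 = z by
      rw [show 7 = 2 * 3 + 1 from rfl, pow_succ, pow_mul, pow_two, hz2, one_pow, one_mul]] at h7
    have hP : qG P = (qG q0 * b) ^ 7 := by
      show (((q0 : Subgroup.centralizer ({z} : Set G)) * K0.bC) ^ 7 : Subgroup.centralizer ({z} : Set G)).1 = _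
      rw [SubmonoidClass.coe_pow]; rfl
    rw [hP]
    exact h7

/-- An element of `C(z)` centralizing `b` and its fixed points in `Q` is one of those points times a power of `b`. -/
theorem kernel {c : G} (hcz : c * z = z * c) (hcb : c * b = b * c)
    (hfix : ∀ q : Q, b * qG q = qG q * b → c * qG q = qG q * c) :
    ∃ q : Q, b * qG q = qG q * b ∧ ∃ k : ℕ, c = qG q * b ^ k := by
  let cC : Subgroup.centralizer ({z} : Set G) := ⟨c, Subgroup.mem_centralizer_singleton_iff.2 hcz⟩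
  obtain ⟨g, hg⟩ := QuotientGroup.mk_surjective (Monster39.proj e cC)
  have hcong : ∀ v : leechLattice, Monster39.permHom pi7 • v = v →
      Cong ((g • v : leechLattice) : GolayPt → ℤ) (v : GolayPt → ℤ) := by
    intro v hv
    obtain ⟨q, hq, hbq⟩ := K0.exists_lift hv
    have h1 := M.hψ.2.2.2 cC g hg v q hq
    have hcq : cj cC q = q := by
      apply Subtype.ext; apply Subtype.ext
      show c * qG q * c⁻¹ = qG q
      rw [hfix q hbq, mul_inv_cancel_right]
    have h2 : ψ (g • v) = QuotientGroup.mk (cj cC q) := h1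
    rw [hcq, ← hq] at h2
    exact (M.map_eq_iff _ _).1 h2
  have hcomm : (QuotientGroup.mk g : Spor.Co1) * P7 = P7 * QuotientGroup.mk g := by
    rw [hg, ← K0.proj_bC, ← map_mul, ← map_mul]
    exact congrArg _ (Subtype.ext hcb)
  obtain ⟨k, hk⟩ := kernel_lemma hcomm (hcong _ pi_fix_frame)
    fun v hv => hcong v (pi_fix_six v hv)
  rw [hg] at hk
  have hmem : cC * (K0.bC ^ k)⁻¹ ∈ Q := by
    rw [← Monster39.proj_eq_one (e := e), map_mul, map_inv, map_pow, K0.proj_bC, hk, mul_inv_cancel]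
  have hval : qG (⟨_, hmem⟩ : Q) = c * (b ^ k)⁻¹ := by
    show ((cC * (K0.bC ^ k)⁻¹ : Subgroup.centralizer ({z} : Set G)) : G) = _
    rw [Subgroup.coe_mul, InvMemClass.coe_inv, SubmonoidClass.coe_pow]
    rfl
  refine ⟨⟨_, hmem⟩, ?_, k, ?_⟩
  · rw [hval]
    exact (((show Commute c b from hcb).symm).mul_right ((Commute.self_pow b k).inv_right)).eq
  · rw [hval, inv_mul_cancel_right]

omit K0 in
/-- Membership in the centralizer of `b`. -/
theorem mem_H {g : G} : g ∈ Subgroup.centralizer ({b} : Set G) ↔ g * b = b * g :=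
  Subgroup.mem_centralizer_singleton_iff

theorem b_pow_eq {u : G} (hu : u ∈ Subgroup.zpowers b) (h : u * u = 1) : u = 1 := by
  obtain ⟨n, rfl⟩ := Subgroup.mem_zpowers_iff.1 hu
  rw [← zpow_add, ← orderOf_dvd_iff_zpow_eq_one, K0.ord] at h
  rw [← orderOf_dvd_iff_zpow_eq_one, K0.ord]
  omega

theorem z_H : z ∈ Subgroup.centralizer ({b} : Set G) := mem_H.2 K0.bz.symm

theorem z_not_zpowers : z ∉ Subgroup.zpowers b := fun h => by
  have h1 := K0.b_pow_eq h M.zz_eq
  have h2 := M.orderOf_z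
  rw [h1, orderOf_one] at h2
  omega

/-- The main dichotomy: fixed elements of an invariant subgroup are powers of `b`, or it contains `z`. -/
theorem zpowers_or_z {K : Subgroup G} (hK : K ≤ Subgroup.centralizer ({b} : Set G))
    (hn : ∀ h ∈ Subgroup.centralizer ({b} : Set G), ∀ k ∈ K, h * k * h⁻¹ ∈ K) :
    z ∈ K ∨ ∀ c ∈ K, c * z = z * c → c ∈ Subgroup.zpowers b := by
  by_cases hz : z ∈ K
  · exact Or.inl hz
  refine Or.inr fun c hc hcz => ?_
  have hnoQ : ∀ w : Q, qG w ∈ K → w = 1 := by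
    intro w hw
    by_contra hne
    have hbw : b * qG w = qG w * b := (mem_H.1 (hK hw)).symm
    by_cases hwc : w ∈ Subgroup.center Q
    · rcases M.mem_center_iff.1 hwc with h | h
      · exact hne h
      · exact hz (by rw [h] at hw; exact hw)
    · obtain ⟨q, hbq, hq⟩ := K0.exists_flip hwc hbw
      have h1 := hn (qG q) (mem_H.2 hbq.symm) _ hw
      rw [hq] at h1
      exact hz (by simpa using mul_mem (inv_mem hw) h1)
  obtain ⟨q, hbq, k, hk⟩ := K0.kernel hcz (mem_H.1 (hK hc)) (fun q hbq => by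
    let cC : Subgroup.centralizer ({z} : Set G) := ⟨c, Subgroup.mem_centralizer_singleton_iff.2 hcz⟩
    have hmem : qG (cj cC q * q⁻¹) ∈ K := by
      have h1 := hn (qG q) (mem_H.2 hbq.symm) _ (inv_mem hc)
      have h2 : c * (qG q * c⁻¹ * (qG q)⁻¹) ∈ K := mul_mem hc h1
      convert h2 using 1
      show c * qG q * c⁻¹ * (qG q)⁻¹ = _
      group
    have h3 := congrArg (fun u : Q => qG u) (hnoQ _ hmem)
    change c * qG q * c⁻¹ * (qG q)⁻¹ = 1 at h3
    rwa [mul_inv_eq_one, mul_inv_eq_iff_eq_mul] at h3)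
  have hq4 : qG q ^ 4 = 1 := by
    have hq2 : qG q * qG q = 1 ∨ qG q * qG q = z := by
      rcases M.qdata.squares q with h | h
      · exact Or.inl (congrArg (fun u : Q => qG u) h)
      · exact Or.inr (congrArg (fun u : Q => qG u) h)
    rw [show (4 : ℕ) = 2 * 2 from rfl, pow_mul, pow_two (qG q), pow_two]
    rcases hq2 with h | h <;> rw [h]
    · simp
    · exact M.zz_eq
  have hc7 : c ^ 7 = (qG q)⁻¹ := by
    rw [hk, (show Commute (qG q) (b ^ k) from ((show Commute b (qG q) from hbq).symm.pow_right k)).mul_pow,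
      ← pow_mul b, mul_comm k 7, pow_mul, ← K0.ord, pow_orderOf_eq_one, one_pow, mul_one, K0.ord]
    rw [eq_inv_iff_mul_eq_one, ← pow_succ, show 7 + 1 = 4 * 2 from rfl, pow_mul, hq4, one_pow]
  have hqK : qG q ∈ K := by
    rw [← inv_inv (qG q), ← hc7]
    exact inv_mem (pow_mem hc 7)
  have hq1 := hnoQ q hqK
  rw [hk, hq1]
  exact mul_mem (one_mem _) (pow_mem (Subgroup.mem_zpowers b) k)

/-- A fixed-point-free involution inverts modulo the powers of `b`. -/
theorem invert {K : Subgroup G} (hK : K ≤ Subgroup.centralizer ({b} : Set G)) {t : G} (ht : t * t = 1)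
    (htb : t * b = b * t) (hn : ∀ k ∈ K, t * k * t⁻¹ ∈ K)
    (hfix : ∀ k ∈ K, k * t = t * k → k ∈ Subgroup.zpowers b) :
    ∀ k ∈ K, t * k * t⁻¹ * k ∈ Subgroup.zpowers b := by
  set H := Subgroup.centralizer ({b} : Set G) with hH
  set Bh := (Subgroup.zpowers b).subgroupOf H with hBh
  haveI : Bh.Normal := ⟨fun u hu h => by
    rw [hBh, Subgroup.mem_subgroupOf] at hu ⊢
    obtain ⟨n, hn⟩ := Subgroup.mem_zpowers_iff.1 hu
    have hc : Commute (h : G) (b ^ n) := (show Commute (h : G) b from mem_H.1 h.2).zpow_right n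
    show (h : G) * (u : G) * (h : G)⁻¹ ∈ _
    rw [← hn, hc.eq, mul_inv_cancel_right]
    exact zpow_mem (Subgroup.mem_zpowers b) n⟩
  let tH : H := ⟨t, mem_H.2 htb⟩
  let π := QuotientGroup.mk' Bh
  set Kb := (K.subgroupOf H).map π with hKb
  have hstab : ∀ u ∈ Kb, π tH * u * (π tH)⁻¹ ∈ Kb := by
    rintro _ ⟨k, hk, rfl⟩
    exact ⟨tH * k * tH⁻¹, hn _ hk, by simp⟩
  let φ : Kb →* Kb := ((MulAut.conj (π tH)).toMonoidHom.comp Kb.subtype).codRestrict Kb fun u => hstab _ u.2
  have htt : π tH * π tH = 1 := by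
    rw [← map_mul, show tH * tH = 1 from Subtype.ext ht, map_one]
  have hinv : Function.Involutive φ := fun u => by
    apply Subtype.ext
    show π tH * (π tH * (u : H ⧸ Bh) * (π tH)⁻¹) * (π tH)⁻¹ = u
    rw [show π tH * (π tH * (u : H ⧸ Bh) * (π tH)⁻¹) * (π tH)⁻¹ =
      (π tH * π tH) * (u : H ⧸ Bh) * (π tH * π tH)⁻¹ by group, htt]
    group
  have hfpf : MonoidHom.FixedPointFree φ := by
    rintro ⟨_, k, hk, rfl⟩ hu
    apply Subtype.ext
    have hu' : π tH * π k * (π tH)⁻¹ = π k := congrArg Subtype.val hu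
    rw [← map_mul, ← map_inv, ← map_mul] at hu'
    have hβ : (tH * k * tH⁻¹)⁻¹ * k ∈ Bh := QuotientGroup.eq.1 hu'
    rw [hBh, Subgroup.mem_subgroupOf] at hβ
    have hk' : (k : G) ∈ K := hk
    set β : G := (t * (k : G) * t⁻¹)⁻¹ * k with hβdef
    have hβm : β ∈ Subgroup.zpowers b := hβ
    have hcb : Commute t β := by
      obtain ⟨n, hn⟩ := Subgroup.mem_zpowers_iff.1 hβm
      rw [← hn]
      exact (show Commute t b from htb).zpow_right n
    have htinv : t⁻¹ = t := inv_eq_of_mul_eq_one_right ht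
    have h1 : (k : G) = t * (k : G) * t * β := by rw [hβdef, htinv]; group
    have h2 : β * β = 1 := by
      have h3 : (k : G) = (k : G) * (β * β) := by
        calc (k : G) = t * (k : G) * t * β := h1
          _ = t * (t * (k : G) * t * β) * t * β := congrArg (fun u => t * u * t * β) h1
          _ = (t * t) * (k : G) * (t * (β * t)) * β := by group
          _ = (k : G) * (β * β) := by
            rw [ht, ← hcb.eq, ← mul_assoc t t β, ht]; group
      exact (mul_eq_left.1 h3.symm)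
    rw [K0.b_pow_eq hβm h2, mul_one] at h1
    have hmem : (k : G) ∈ Subgroup.zpowers b := hfix _ hk' (by
      conv_lhs => rw [h1]
      rw [mul_assoc, ht, mul_one])
    show π k = 1
    exact (QuotientGroup.eq_one_iff _).2 hmem
  intro k hk
  have hkH := hK hk
  have h1 := congrFun (hfpf.coe_eq_inv_of_involutive hinv) ⟨π ⟨k, hkH⟩, ⟨_, hk, rfl⟩⟩
  have h2 : π tH * π ⟨k, hkH⟩ * (π tH)⁻¹ = (π ⟨k, hkH⟩)⁻¹ := congrArg Subtype.val h1
  rw [← mul_eq_one_iff_eq_inv, ← map_mul, ← map_inv, ← map_mul, ← map_mul] at h2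
  have h3 : tH * (⟨k, hkH⟩ : H) * tH⁻¹ * ⟨k, hkH⟩ ∈ Bh := (QuotientGroup.eq_one_iff _).1 h2
  exact h3

/-- A perfect invariant subgroup is trivial or contains `z`. -/
theorem z_mem_perfect {K : Subgroup G} (hK : K ≤ Subgroup.centralizer ({b} : Set G))
    (hn : ∀ h ∈ Subgroup.centralizer ({b} : Set G), ∀ k ∈ K, h * k * h⁻¹ ∈ K)
    (hp : ⁅K, K⁆ = K) (hne : K ≠ ⊥) : z ∈ K := by
  refine (K0.zpowers_or_z hK hn).resolve_right fun hfix => hne ?_
  have hinv := K0.invert hK M.zz_eq K0.bz.symm (fun k hk => hn z K0.z_H k hk) hfix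
  have hzc : ∀ u ∈ Subgroup.zpowers b, ∀ k ∈ K, Commute u k := by
    intro u hu k hk
    obtain ⟨n, rfl⟩ := Subgroup.mem_zpowers_iff.1 hu
    exact (show Commute b k from (mem_H.1 (hK hk)).symm).zpow_left n
  have hle : K ≤ Subgroup.zpowers b := by
    rw [← hp, Subgroup.commutator_le]
    intro a ha c hc
    -- three inversions
    have h1 := hinv a ha
    have h2 := hinv c hc
    have h3 := hinv (a * c) (mul_mem ha hc)
    set β := z * a * z⁻¹ * a with hβ
    set γ := z * c * z⁻¹ * c with hγ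
    set δ := z * (a * c) * z⁻¹ * (a * c) with hδ
    have ea : z * a * z⁻¹ = β * a⁻¹ := by rw [hβ]; group
    have ec : z * c * z⁻¹ = γ * c⁻¹ := by rw [hγ]; group
    have hδ' : δ = β * γ * (a⁻¹ * c⁻¹ * a * c) := by
      calc δ = (z * a * z⁻¹) * (z * c * z⁻¹) * (a * c) := by rw [hδ]; group
        _ = β * a⁻¹ * (γ * c⁻¹) * (a * c) := by rw [ea, ec]
        _ = β * (a⁻¹ * γ) * (c⁻¹ * a * c) := by group
        _ = β * (γ * a⁻¹) * (c⁻¹ * a * c) := by rw [(hzc γ h2 a⁻¹ (inv_mem ha)).eq]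
        _ = _ := by group
    have hw : a⁻¹ * c⁻¹ * a * c ∈ Subgroup.zpowers b := by
      have : a⁻¹ * c⁻¹ * a * c = (β * γ)⁻¹ * δ := by rw [hδ']; group
      rw [this]
      exact mul_mem (inv_mem (mul_mem h1 h2)) h3
    have hcm := hzc _ hw (c * a) (mul_mem hc ha)
    rw [commutatorElement_def]
    have : a * c * a⁻¹ * c⁻¹ = (c * a) * (a⁻¹ * c⁻¹ * a * c) * (c * a)⁻¹ := by group
    rw [this, ← hcm.eq, mul_inv_cancel_right]
    exact hw
  rw [eq_bot_iff, ← hp, Subgroup.commutator_le]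
  intro a ha c hc
  rw [Subgroup.mem_bot, commutatorElement_eq_one_iff_mul_comm]
  exact (hzc a (hle ha) c hc).eq

/-- An involution generating exponent-two elements is central-free: a nontrivial invariant two-group contains `z`. -/
theorem z_mem_two {K : Subgroup G} (hK : K ≤ Subgroup.centralizer ({b} : Set G))
    (hn : ∀ h ∈ Subgroup.centralizer ({b} : Set G), ∀ k ∈ K, h * k * h⁻¹ ∈ K)
    (hp : IsPGroup 2 K) (hne : K ≠ ⊥) : z ∈ K := by
  refine (K0.zpowers_or_z hK hn).resolve_right fun hfix => ?_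
  have hinv := K0.invert hK M.zz_eq K0.bz.symm (fun k hk => hn z K0.z_H k hk) hfix
  haveI : Fact (Nat.Prime 2) := ⟨Nat.prime_two⟩
  haveI : Nontrivial K := (Subgroup.nontrivial_iff_ne_bot K).2 hne
  obtain ⟨m, hm⟩ := IsPGroup.iff_card.1 hp
  have h2 : 2 ∣ Nat.card K := by
    rcases m with _ | m
    · have := Finite.one_lt_card (α := K)
      omega
    · exact hm ▸ dvd_pow_self 2 (Nat.succ_ne_zero m)
  obtain ⟨v, hv⟩ := exists_prime_orderOf_dvd_card' 2 h2
  have hv2 : (v : G) * v = 1 := by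
    have := pow_orderOf_eq_one v
    rw [hv, pow_two] at this
    exact congrArg Subtype.val this
  have h1 := hinv v v.2
  set β := z * (v : G) * z⁻¹ * v with hβ
  have hzv : z * (v : G) * z⁻¹ = β * v := by
    rw [hβ, mul_assoc _ (v : G) (v : G), hv2, mul_one]
  have hcb : Commute β v := by
    obtain ⟨n, hn'⟩ := Subgroup.mem_zpowers_iff.1 h1
    rw [← hn']
    exact (show Commute b v from (mem_H.1 (hK v.2)).symm).zpow_left n
  have hββ : β * β = 1 := by
    have h3 : (z * (v : G) * z⁻¹) * (z * (v : G) * z⁻¹) = 1 := by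
      calc _ = z * ((v : G) * v) * z⁻¹ := by group
        _ = 1 := by rw [hv2]; group
    rw [hzv, show β * (v : G) * (β * v) = β * ((v : G) * β) * v by group, ← hcb.eq,
      show β * (β * (v : G)) * v = β * β * ((v : G) * v) by group, hv2, mul_one] at h3
    exact h3
  rw [K0.b_pow_eq h1 hββ, one_mul] at hzv
  have hvb := hfix v v.2 (mul_inv_eq_iff_eq_mul.1 hzv).symm
  have hv1 : (v : G) = 1 := K0.b_pow_eq hvb hv2
  rw [show v = 1 from Subtype.ext hv1, orderOf_one] at hv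
  omega

theorem not_dvd_card_cent :
    ¬ 7 ^ 2 ∣ Nat.card (Subgroup.centralizer ({(x : Subgroup.centralizer ({z} : Set G))} :
      Set (Subgroup.centralizer ({z} : Set G)))) := by
  intro h
  have h1 := M.card_cent (by norm_num) K0.cls_x
  rw [M.ncard_cls.2.2, Monster39.card_Co1] at h1
  omega

/-- Elements of order seven centralizing `z` and `x` generate conjugate subgroups. -/
theorem conj_b {b' : G} (hz : b' * z = z * b') (hxc : b' * qG x = qG x * b') (ho : orderOf b' = 7) :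
    ∃ c : G, c * z = z * c ∧ c * qG x = qG x * c ∧ ∃ k : ℤ, c * b' * c⁻¹ = b ^ k := by
  haveI : Fact (Nat.Prime 7) := ⟨by norm_num⟩
  set L := Subgroup.centralizer ({(x : Subgroup.centralizer ({z} : Set G))} :
      Set (Subgroup.centralizer ({z} : Set G))) with hL
  let b1 : L := ⟨K0.bC, Subgroup.mem_centralizer_singleton_iff.2 (Subtype.ext K0.bx)⟩
  let b2 : L := ⟨⟨b', Subgroup.mem_centralizer_singleton_iff.2 hz⟩,
    Subgroup.mem_centralizer_singleton_iff.2 (Subtype.ext hxc)⟩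
  have o1 : orderOf b1 = 7 := by
    rw [← Subgroup.orderOf_coe, ← Subgroup.orderOf_coe]; exact K0.ord
  have o2 : orderOf b2 = 7 := by
    rw [← Subgroup.orderOf_coe, ← Subgroup.orderOf_coe]; exact ho
  obtain ⟨c, k, hk⟩ := Leech.Criterion.exists_conj_zpowers K0.not_dvd_card_cent o1 o2
  refine ⟨((c : Subgroup.centralizer ({z} : Set G)) : G), Subgroup.mem_centralizer_singleton_iff.1 (c : Subgroup.centralizer ({z} : Set G)).2,
    congrArg Subtype.val (Subgroup.mem_centralizer_singleton_iff.1 c.2), k, ?_⟩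
  have h := congrArg (fun u : L => ((u : Subgroup.centralizer ({z} : Set G)) : G)) hk
  simpa [b1, b2, bC] using h

theorem commute_pow_iff {k : ℤ} (hk : b ^ k ≠ 1) {h : G} : h * b ^ k = b ^ k * h ↔ h * b = b * h := by
  refine ⟨fun hh => ?_, fun hh => ((show Commute h b from hh).zpow_right k).eq⟩
  have hcop : IsCoprime k (7 : ℤ) := by
    rw [Ne, ← orderOf_dvd_iff_zpow_eq_one, K0.ord] at hk
    exact (((by norm_num : Prime (7 : ℤ)).coprime_iff_not_dvd).2 hk).symm
  obtain ⟨u, v, huv⟩ := hcop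
  have h1 : b = (b ^ k) ^ u := by
    conv_lhs => rw [← zpow_one b, ← huv]
    rw [zpow_add, mul_comm v, zpow_mul b 7 v, show b ^ (7 : ℤ) = 1 by
      rw [show (7 : ℤ) = ((7 : ℕ) : ℤ) from rfl, zpow_natCast, ← K0.ord, pow_orderOf_eq_one],
      one_zpow, mul_one, mul_comm u, zpow_mul]
  rw [h1]
  exact ((show Commute h (b ^ k) from hh).zpow_right u).eq

theorem conj_H {n : G} {k : ℤ} (hn : n * b * n⁻¹ = b ^ k) {h : G} (hh : h * b = b * h) :
    n * h * n⁻¹ * b = b * (n * h * n⁻¹) := by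
  have hk : b ^ k ≠ 1 := by
    rw [← hn]
    intro h1
    rw [mul_inv_eq_one, mul_eq_left] at h1
    have := K0.ord
    rw [h1, orderOf_one] at this
    omega
  refine (K0.commute_pow_iff hk).1 ?_
  rw [← hn]
  calc n * h * n⁻¹ * (n * b * n⁻¹) = n * (h * b) * n⁻¹ := by group
    _ = n * (b * h) * n⁻¹ := by rw [hh]
    _ = _ := by group

theorem conj_H' {n : G} {k : ℤ} (hn : n * b * n⁻¹ = b ^ k) {h : G} (hh : h * b = b * h) :
    n⁻¹ * h * n * b = b * (n⁻¹ * h * n) := by
  have h1 : h * b ^ k = b ^ k * h := ((show Commute h b from hh).zpow_right k).eq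
  rw [← hn] at h1
  calc n⁻¹ * h * n * b = n⁻¹ * (h * (n * b * n⁻¹)) * n := by group
    _ = n⁻¹ * (n * b * n⁻¹ * h) * n := by rw [h1]
    _ = _ := by group

/-- An element normalizing the powers of `b` and interchanging `z` and `x`. -/
theorem exists_swap : ∃ n : G, (∃ k : ℤ, n * b * n⁻¹ = b ^ k) ∧ n * z * n⁻¹ = qG x ∧
    n * qG x * n⁻¹ = z := by
  obtain ⟨g, hg⟩ := isConj_iff.1 K0.x_conj.1
  have hne : x ≠ M.zQ := (M.ne_zQ_iff x).2 K0.x_conj.2
  obtain ⟨y, hy, -⟩ := M.exists_back hg hne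
  have hyc : Monster39.Cls ψ 64 y := by
    refine (M.isConj_iff_cls y).1 ⟨isConj_iff.2 ⟨g⁻¹, by rw [inv_inv]; exact hy.symm⟩, fun h => ?_⟩
    change qG y = z at h
    rw [show qG y = g⁻¹ * z * g from hy] at h
    apply K0.x_conj.2
    rw [← hg]
    conv_lhs => rw [← h]
    group
  obtain ⟨h, hh⟩ := M.transitive (by norm_num) K0.cls_x hyc
  have hh' : (h : G) * qG x * (h : G)⁻¹ = g⁻¹ * z * g :=
    (congrArg (fun u : Q => qG u) hh).trans hy
  have hhz : (h : G) * z * (h : G)⁻¹ = z := by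
    rw [Subgroup.mem_centralizer_singleton_iff.1 h.2, mul_inv_cancel_right]
  set g' : G := g * h with hg'
  have e1 : g' * z * g'⁻¹ = qG x := by
    calc g' * z * g'⁻¹ = g * ((h : G) * z * (h : G)⁻¹) * g⁻¹ := by rw [hg']; group
      _ = qG x := by rw [hhz, hg]
  have e2 : g' * qG x * g'⁻¹ = z := by
    calc g' * qG x * g'⁻¹ = g * ((h : G) * qG x * (h : G)⁻¹) * g⁻¹ := by rw [hg']; group
      _ = z := by rw [hh']; group
  obtain ⟨c, hcz, hcx, k, hk⟩ := K0.conj_b (b' := g' * b * g'⁻¹)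
    (by rw [← e2]; calc g' * b * g'⁻¹ * (g' * qG x * g'⁻¹) = g' * (b * qG x) * g'⁻¹ := by group
          _ = g' * (qG x * b) * g'⁻¹ := by rw [K0.bx]
          _ = _ := by group)
    (by rw [← e1]; calc g' * b * g'⁻¹ * (g' * z * g'⁻¹) = g' * (b * z) * g'⁻¹ := by group
          _ = g' * (z * b) * g'⁻¹ := by rw [K0.bz]
          _ = _ := by group)
    (by rw [← K0.ord]; exact (orderOf_injective (MulAut.conj g').toMonoidHom (MulAut.conj g').injective b))
  refine ⟨c * g', ⟨k, by rw [← hk]; group⟩, ?_, ?_⟩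
  · calc c * g' * z * (c * g')⁻¹ = c * (g' * z * g'⁻¹) * c⁻¹ := by group
      _ = qG x := by rw [e1, hcx, mul_inv_cancel_right]
  · calc c * g' * qG x * (c * g')⁻¹ = c * (g' * qG x * g'⁻¹) * c⁻¹ := by group
      _ = z := by rw [e2, hcz, mul_inv_cancel_right]

/-- The conjugate of an invariant subgroup by an element normalizing the powers of `b`. -/
theorem conj_inv {n : G} {k : ℤ} (hn : n * b * n⁻¹ = b ^ k) {K : Subgroup G}
    (hK : K ≤ Subgroup.centralizer ({b} : Set G))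
    (hnK : ∀ h ∈ Subgroup.centralizer ({b} : Set G), ∀ u ∈ K, h * u * h⁻¹ ∈ K) :
    K.map (MulAut.conj n).toMonoidHom ≤ Subgroup.centralizer ({b} : Set G) ∧
      ∀ h ∈ Subgroup.centralizer ({b} : Set G), ∀ u ∈ K.map (MulAut.conj n).toMonoidHom,
        h * u * h⁻¹ ∈ K.map (MulAut.conj n).toMonoidHom := by
  refine ⟨?_, ?_⟩
  · rintro _ ⟨u, hu, rfl⟩
    exact mem_H.2 (K0.conj_H hn (mem_H.1 (hK hu)))
  · rintro h hh _ ⟨u, hu, rfl⟩
    refine ⟨n⁻¹ * h * n * u * (n⁻¹ * h * n)⁻¹,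
      hnK _ (mem_H.2 (K0.conj_H' hn (mem_H.1 hh))) u hu, ?_⟩
    show n * (n⁻¹ * h * n * u * (n⁻¹ * h * n)⁻¹) * n⁻¹ = h * (n * u * n⁻¹) * h⁻¹
    group

theorem conj_inv' {n : G} {k : ℤ} (hn : n * b * n⁻¹ = b ^ k) {K : Subgroup G}
    (hK : K ≤ Subgroup.centralizer ({b} : Set G))
    (hnK : ∀ h ∈ Subgroup.centralizer ({b} : Set G), ∀ u ∈ K, h * u * h⁻¹ ∈ K) :
    K.map (MulAut.conj n⁻¹).toMonoidHom ≤ Subgroup.centralizer ({b} : Set G) ∧
      ∀ h ∈ Subgroup.centralizer ({b} : Set G), ∀ u ∈ K.map (MulAut.conj n⁻¹).toMonoidHom,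
        h * u * h⁻¹ ∈ K.map (MulAut.conj n⁻¹).toMonoidHom := by
  refine ⟨?_, ?_⟩
  · rintro _ ⟨u, hu, rfl⟩
    have := K0.conj_H' hn (mem_H.1 (hK hu))
    exact mem_H.2 (by simpa using this)
  · rintro h hh _ ⟨u, hu, rfl⟩
    refine ⟨n * h * n⁻¹ * u * (n * h * n⁻¹)⁻¹,
      hnK _ (mem_H.2 (K0.conj_H hn (mem_H.1 hh))) u hu, ?_⟩
    show n⁻¹ * (n * h * n⁻¹ * u * (n * h * n⁻¹)⁻¹) * n⁻¹⁻¹ = h * (n⁻¹ * u * n⁻¹⁻¹) * h⁻¹
    group

end Cf

end Cfsg.Agent.MonSeven5
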