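import Cfsg.Agent.MonSeven5.Invert

/-!
The automizer of a Sylow 7-subgroup of the joint centralizer of two commuting conjugate involutions.
-/
set_option autoImplicit false
set_option linter.unusedSectionVars false
set_option linter.style.haveILetI false

namespace Cfsg.Agent.MonSeven5

open Cfsg Cfsg.Agent.Leech Cfsg.Agent.Monster39
open scoped Pointwise

variable {G : Type*} [Group G] [Finite G] {z : G}
  {Q : Subgroup (Subgroup.centralizer ({z} : Set G))} [Q.Normal]
  {e : (Subgroup.centralizer ({z} : Set G)) ⧸ Q ≃* Spor.Co1}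
  {ψ : leechLattice → Q ⧸ Subgroup.center Q}

theorem proj_twist (a : Co0) (u : Subgroup.centralizer ({z} : Set G)) :
    Monster39.proj (e.trans (MulAut.conj (QuotientGroup.mk a⁻¹ : Spor.Co1))) u =
      (QuotientGroup.mk a⁻¹ : Spor.Co1) * Monster39.proj e u * (QuotientGroup.mk a⁻¹ : Spor.Co1)⁻¹ := rfl

/-- Some element of order seven satisfies the data, with `x` on the standard frame. -/
theorem exists_cf (M : Monster39.Setting z Q e ψ) {x : Q} (hx : ψ (frame none) = QuotientGroup.mk x) :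
    ∃ b : G, Cf M x b := by
  have hxc := M.not_mem_center (by norm_num) (by norm_num)
    (⟨frame none, sqNorm_frame none, hx⟩ : Monster39.Cls ψ 64 x)
  obtain ⟨h, hh, hhx⟩ := M.conj_of_smul hxc hx (g := Monster39.permHom pi7) (y := x) (by rw [pi_fix_frame, hx])
  have hh7 : Monster39.proj e h = P7 := hh
  have h56 : h ^ 56 = 1 := by
    have hmem : h ^ 7 ∈ Q := by rw [← Monster39.proj_eq_one (e := e), map_pow, hh7, P7_pow]
    have h4 : (⟨_, hmem⟩ : Q) ^ 4 = 1 := by
      rw [show (4 : ℕ) = 2 * 2 from rfl, pow_mul, pow_two (⟨_, hmem⟩ : Q), pow_two]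
      rcases M.qdata.squares (⟨_, hmem⟩ : Q) with h' | h' <;> rw [h']
      · exact mul_one 1
      · exact M.zQ_sq
    rw [show (56 : ℕ) = 7 * 4 * 2 from rfl, pow_mul, pow_mul,
      show (h ^ 7) ^ 4 = 1 from congrArg Subtype.val h4, one_pow]
  have hp8 : Monster39.proj e (h ^ 8) = P7 := by
    rw [map_pow, hh7, show 8 = 7 + 1 from rfl, pow_succ, P7_pow, one_mul]
  haveI : Fact (Nat.Prime 7) := ⟨by norm_num⟩
  have ho : orderOf (h ^ 8) = 7 := orderOf_eq_prime (by rw [← pow_mul]; exact h56) fun h1 => by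
    rw [h1, map_one] at hp8
    exact P7_ne_one hp8.symm
  refine ⟨((h ^ 8 : Subgroup.centralizer ({z} : Set G)) : G), hx, by rw [Subgroup.orderOf_coe, ho],
    Subgroup.mem_centralizer_singleton_iff.1 (h ^ 8).2, ?_, fun _ => hp8⟩
  have h1 : Commute h (x : Subgroup.centralizer ({z} : Set G)) :=
    mul_inv_eq_iff_eq_mul.1 (congrArg Subtype.val hhx)
  exact congrArg Subtype.val (h1.pow_left 8).eq

theorem map_layer_conj {H : Subgroup G} {t : G} (h1 : ∀ h ∈ H, t * h * t⁻¹ ∈ H)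
    (h2 : ∀ h ∈ H, t⁻¹ * h * t ∈ H) :
    ∀ u ∈ (layer H).map H.subtype, t * u * t⁻¹ ∈ (layer H).map H.subtype := by
  let φ : H ≃* H :=
    { toFun := fun u => ⟨t * u * t⁻¹, h1 _ u.2⟩
      invFun := fun u => ⟨t⁻¹ * u * t, h2 _ u.2⟩
      left_inv := fun u => Subtype.ext (by show t⁻¹ * (t * (u : G) * t⁻¹) * t = u; group)
      right_inv := fun u => Subtype.ext (by show t * (t⁻¹ * (u : G) * t) * t⁻¹ = u; group)
      map_mul' := fun u v => Subtype.ext (by
        show t * ((u : G) * v) * t⁻¹ = t * u * t⁻¹ * (t * v * t⁻¹)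
        group) }
  rintro _ ⟨u, hu, rfl⟩
  refine ⟨φ u, ?_, rfl⟩
  have h := Components.map_layer_equiv φ
  rw [← h]
  exact ⟨u, hu, rfl⟩

namespace Cf

variable {M : Monster39.Setting z Q e ψ} {x : Q} {b : G} (K0 : Cf M x b)
include K0

theorem exists_square : ∃ n : G, n * b * n⁻¹ = b ^ 2 := by
  haveI : Fact (Nat.Prime 7) := ⟨by norm_num⟩
  have hxc := K0.x_not_center
  have hP : (QuotientGroup.mk (Monster39.permHom sq7) : Spor.Co1) * P7 *
      (QuotientGroup.mk (Monster39.permHom sq7))⁻¹ = P7 ^ 2 := by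
    rw [P7, ← QuotientGroup.mk_inv, ← QuotientGroup.mk_mul, ← QuotientGroup.mk_mul, ← map_inv,
      ← map_mul, ← map_mul, sq7_rel, map_pow, QuotientGroup.mk_pow]
  have hfix : ψ (Monster39.permHom sq7 • frame none) = QuotientGroup.mk x := by
    rw [← K0.hx, M.map_eq_iff]
    refine Cong.symm ((stdCross_subset _ ⟨sq7.1 none, 8, Or.inl rfl, ?_⟩).2.2)
    exact (coe_mono_frame sq7 empty_mem_code none).trans (by simp)
  obtain ⟨s, hs, hsx⟩ := M.conj_of_smul hxc K0.hx hfix
  have hsx' : s * (x : Subgroup.centralizer ({z} : Set G)) = (x : Subgroup.centralizer ({z} : Set G)) * s :=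
    mul_inv_eq_iff_eq_mul.1 (congrArg Subtype.val hsx)
  set L := Subgroup.centralizer ({(x : Subgroup.centralizer ({z} : Set G))} :
    Set (Subgroup.centralizer ({z} : Set G))) with hL
  set U := L ⊓ (Subgroup.zpowers P7).comap (Monster39.proj e) with hU
  have hxs : Commute s (x : Subgroup.centralizer ({z} : Set G)) := hsx'
  have hxb : Commute K0.bC (x : Subgroup.centralizer ({z} : Set G)) := Subtype.ext K0.bx
  let u1 : U := ⟨K0.bC, Subgroup.mem_centralizer_singleton_iff.2 hxb.eq, by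
    show Monster39.proj e K0.bC ∈ Subgroup.zpowers P7
    rw [K0.proj_bC]; exact Subgroup.mem_zpowers P7⟩
  let u2 : U := ⟨s * K0.bC * s⁻¹,
    Subgroup.mem_centralizer_singleton_iff.2 ((hxs.mul_left hxb).mul_left hxs.inv_left).eq, by
    show Monster39.proj e (s * K0.bC * s⁻¹) ∈ Subgroup.zpowers P7
    rw [map_mul, map_mul, map_inv, hs, K0.proj_bC, hP]
    exact pow_mem (Subgroup.mem_zpowers P7) 2⟩
  have o1 : orderOf u1 = 7 := by
    rw [← Subgroup.orderOf_coe, ← Subgroup.orderOf_coe]; exact K0.ord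
  have o2 : orderOf u2 = 7 := by
    rw [← Subgroup.orderOf_coe, ← o1, ← Subgroup.orderOf_coe (a := u1)]
    exact orderOf_injective (MulAut.conj s).toMonoidHom (MulAut.conj s).injective K0.bC
  obtain ⟨c, k, hk⟩ := Leech.Criterion.exists_conj_zpowers
    (fun h => K0.not_dvd_card_cent (h.trans (Subgroup.card_dvd_of_le inf_le_left))) o1 o2
  have hk' : (c : Subgroup.centralizer ({z} : Set G)) * (s * K0.bC * s⁻¹) *
      (c : Subgroup.centralizer ({z} : Set G))⁻¹ = K0.bC ^ k := congrArg Subtype.val hk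
  have hk2 : P7 ^ k = P7 ^ 2 := by
    obtain ⟨i, hi⟩ := Subgroup.mem_zpowers_iff.1 c.2.2
    have := congrArg (Monster39.proj e) hk'
    rw [map_zpow, map_mul, map_mul, map_inv, map_mul, map_mul, map_inv, hs, K0.proj_bC, hP, ← hi] at this
    rw [← this, ← zpow_natCast P7 2, ← zpow_add, ← zpow_neg, ← zpow_add]
    congr 1
    omega
  have hbk : b ^ k = b ^ 2 := by
    rw [← zpow_natCast, zpow_eq_zpow_iff_modEq, K0.ord]
    rw [← zpow_natCast, zpow_eq_zpow_iff_modEq,
      show orderOf P7 = 7 from orderOf_eq_prime P7_pow P7_ne_one] at hk2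
    exact hk2
  refine ⟨((c * s : Subgroup.centralizer ({z} : Set G)) : G), ?_⟩
  rw [← hbk]
  have := congrArg Subtype.val hk'
  rw [SubgroupClass.coe_zpow] at this
  refine Eq.trans ?_ this
  simp [bC, mul_assoc]

theorem relIndex_eq : (Subgroup.centralizer (Subgroup.zpowers b : Set G)).relIndex
    (Subgroup.normalizer (Subgroup.zpowers b : Set G)) = 6 := by
  set B := Subgroup.zpowers b with hB
  set f := Subgroup.normalizerMonoidHom B with hf
  have hker : (Subgroup.centralizer (B : Set G)).subgroupOf (Subgroup.normalizer (B : Set G)) = f.ker :=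
    (Subgroup.normalizerMonoidHom_ker B).symm
  rw [Subgroup.relIndex, hker, Subgroup.index_ker]
  haveI : Finite (MulAut B) := Finite.of_injective _ DFunLike.coe_injective
  have hcard : Nat.card (MulAut B) = 6 := by
    rw [Nat.card_congr (IsCyclic.mulAutMulEquiv B).toEquiv, Nat.card_zpowers, K0.ord,
      Nat.card_eq_fintype_card, ZMod.card_units_eq_totient]
    rfl
  have hdvd : Nat.card f.range ∣ 6 := hcard ▸ Subgroup.card_subgroup_dvd_card _
  have hnorm : ∀ {n : G} {j : ℕ}, n * b * n⁻¹ = b ^ j → Nat.Coprime j 7 →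
      n ∈ Subgroup.normalizer (B : Set G) := by
    intro n j hn hj
    refine Subgroup.mem_normalizer_iff_map_conj_eq.2 (Subgroup.eq_of_le_of_card_ge ?_ ?_)
    · rintro _ ⟨u, hu, rfl⟩
      obtain ⟨i, hi⟩ := Subgroup.mem_zpowers_iff.1 hu
      show n * u * n⁻¹ ∈ B
      rw [← hi, ← conj_zpow, hn]
      exact zpow_mem (pow_mem (Subgroup.mem_zpowers b) j) i
    · exact (Nat.card_congr (Subgroup.equivMapOfInjective _ _ (MulAut.conj n).injective).toEquiv).le
  have hfne : ∀ {n : G} (hn : n ∈ Subgroup.normalizer (B : Set G)), n * b * n⁻¹ ≠ b → f ⟨n, hn⟩ ≠ 1 := by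
    intro n hn hne h
    apply hne
    rw [← MonoidHom.mem_ker, ← hker, Subgroup.mem_subgroupOf] at h
    have := Subgroup.mem_centralizer_iff.1 h b (Subgroup.mem_zpowers b)
    rw [← this, mul_inv_cancel_right]
  have hfpow : ∀ {n : G} (hn : n ∈ Subgroup.normalizer (B : Set G)) (i : ℕ),
      n ^ i * b * (n ^ i)⁻¹ = b → f ⟨n, hn⟩ ^ i = 1 := by
    intro n hn i h
    rw [← map_pow, ← MonoidHom.mem_ker, ← hker, Subgroup.mem_subgroupOf]
    refine Subgroup.mem_centralizer_iff.2 fun u hu => ?_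
    obtain ⟨j, rfl⟩ := Subgroup.mem_zpowers_iff.1 hu
    rw [SubmonoidClass.coe_pow]
    exact ((show Commute b (n ^ i) from (mul_inv_eq_iff_eq_mul.1 h).symm).zpow_left j).eq
  have hb1 : b ≠ 1 := fun h => by
    have := K0.ord
    rw [h, orderOf_one] at this
    omega
  obtain ⟨t, ht, htb⟩ := K0.exists_inverter
  obtain ⟨n, hn⟩ := K0.exists_square
  have ht' : t * b * t⁻¹ = b ^ 6 := by
    rw [htb, inv_eq_iff_mul_eq_one, ← pow_succ']
    rw [← show orderOf b = 6 + 1 from K0.ord]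
    exact pow_orderOf_eq_one b
  have htm := hnorm ht' (by norm_num)
  have hnm := hnorm hn (by norm_num)
  have hpne : ∀ j : ℕ, 2 ≤ j → j < 7 → b ^ j ≠ b := by
    intro j h2 h7 h
    have h1 : b ^ (j - 1) = 1 := by
      rw [← mul_eq_right (b := b), ← pow_succ, show j - 1 + 1 = j by omega, h]
    exact pow_ne_one_of_lt_orderOf (by omega) (by rw [K0.ord]; omega) h1
  haveI : Fact (Nat.Prime 2) := ⟨Nat.prime_two⟩
  haveI : Fact (Nat.Prime 3) := ⟨Nat.prime_three⟩
  have o2 : orderOf (f ⟨t, htm⟩) = 2 := orderOf_eq_prime (hfpow htm 2 (by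
      rw [← ht, pow_orderOf_eq_one, one_mul, inv_one, mul_one])) (hfne htm (by
      rw [ht']; exact hpne 6 (by omega) (by omega)))
  have o3 : orderOf (f ⟨n, hnm⟩) = 3 := orderOf_eq_prime (hfpow hnm 3 (by
      calc n ^ 3 * b * (n ^ 3)⁻¹ = n * (n * (n * b * n⁻¹) * n⁻¹) * n⁻¹ := by
            simp only [pow_succ, pow_zero, one_mul, mul_inv_rev, mul_assoc]
        _ = b := by
            rw [hn, ← conj_pow, hn, ← pow_mul, ← conj_pow, hn, ← pow_mul, show 2 * (2 * 2) = 7 + 1 from rfl,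
              pow_succ, ← K0.ord, pow_orderOf_eq_one, one_mul])) (hfne hnm (by
      rw [hn]; exact hpne 2 (by omega) (by omega)))
  have d2 : 2 ∣ Nat.card f.range := o2 ▸ Subgroup.orderOf_dvd_natCard _ ⟨_, rfl⟩
  have d3 : 3 ∣ Nat.card f.range := o3 ▸ Subgroup.orderOf_dvd_natCard _ ⟨_, rfl⟩
  exact Nat.dvd_antisymm hdvd (Nat.Coprime.mul_dvd_of_dvd_of_dvd (by norm_num : Nat.Coprime 2 3) d2 d3)

/-- The involution inverting `b` acts on the layer as no element of the layer does. -/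
theorem main :
    ∃ t : G, orderOf t = 2 ∧ (∀ u ∈ Subgroup.zpowers b, t * u * t⁻¹ = u⁻¹) ∧
      (∀ u ∈ K0.E, t * u * t⁻¹ ∈ K0.E) ∧
      ¬ ∃ l ∈ K0.E, ∀ u ∈ K0.E, t * u * t⁻¹ = l * u * l⁻¹ := by
  obtain ⟨t, ht, htb⟩ := K0.exists_inverter
  refine ⟨t, ht, fun u hu => ?_, ?_, ?_⟩
  · obtain ⟨i, rfl⟩ := Subgroup.mem_zpowers_iff.1 hu
    rw [← conj_zpow, htb, inv_zpow]
  · have hk : t * b * t⁻¹ = b ^ (-1 : ℤ) := by rw [htb, zpow_neg_one]
    exact map_layer_conj (fun h hh => mem_H.2 (K0.conj_H hk (mem_H.1 hh)))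
      fun h hh => mem_H.2 (K0.conj_H' hk (mem_H.1 hh))
  · rintro ⟨l, hl, hlu⟩
    have hlb : l⁻¹ * b⁻¹ * l = b⁻¹ := by
      have h1 : Commute l b := mem_H.1 (K0.E_spec.1 hl)
      rw [mul_assoc, ← h1.inv_right.eq, inv_mul_cancel_left]
    refine K0.no_invert_of_cent (u := l⁻¹ * t) (fun v hv => ?_) ?_
    · calc l⁻¹ * t * v * (l⁻¹ * t)⁻¹ = l⁻¹ * (t * v * t⁻¹) * l := by group
        _ = l⁻¹ * (l * v * l⁻¹) * l := by rw [hlu v hv]
        _ = v := by group
    · calc l⁻¹ * t * b * (l⁻¹ * t)⁻¹ = l⁻¹ * (t * b * t⁻¹) * l := by group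
        _ = b⁻¹ := by rw [htb, hlb]

end Cf

end Cfsg.Agent.MonSeven5
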