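import Cfsg.Agent.MonSeven5.Local

/-!
The layer of the centralizer of an element of order seven in a group of Monster type.
-/
set_option autoImplicit false
set_option linter.unusedSectionVars false
set_option linter.style.haveILetI false

namespace Cfsg.Agent.MonSeven5

open Cfsg Cfsg.Agent.Leech Cfsg.Agent.Monster39 Cfsg.Agent.FGS82
open scoped Pointwise

variable {G : Type*} [Group G] [Finite G] {z : G}
  {Q : Subgroup (Subgroup.centralizer ({z} : Set G))} [Q.Normal]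
  {e : (Subgroup.centralizer ({z} : Set G)) ⧸ Q ≃* Spor.Co1}
  {ψ : leechLattice → Q ⧸ Subgroup.center Q}

/-- Some element of the first kind squares to one. -/
theorem exists_t32 (M : Monster39.Setting z Q e ψ) : ∃ t : Q, Monster39.Cls ψ 32 t ∧ t * t = 1 := by
  by_contra hcon
  push Not at hcon
  obtain ⟨m, hm, hns⟩ := counts (Nat.card Q) M.qdata le_rfl
  obtain rfl : m = 12 := by
    have := Nat.pow_right_injective (le_refl 2) (M.card_Q.symm.trans hm)
    omega
  have hcard : nsq Q = {a : Q | a * a = 1}.ncard := by rw [nsq, ← Nat.card_coe_set_eq]; rfl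
  have hsub : {a : Q | a * a = 1} ⊆ {a : Q | Monster39.Cls ψ 64 a} ∪ {1, M.zQ} := by
    intro a ha
    by_cases hac : a ∈ Subgroup.center Q
    · exact Or.inr (M.mem_center_iff.1 hac)
    · exact Or.inl ((M.cls_of_sq hac ha).resolve_left fun h => hcon a h ha)
  have h1 := (Set.ncard_le_ncard hsub (Set.toFinite _)).trans (Set.ncard_union_le _ _)
  have h2 : ({1, M.zQ} : Set Q).ncard ≤ 2 := (Set.ncard_insert_le _ _).trans (by simp)
  rw [M.ncard_cls.2.2, ← hcard] at h1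
  rcases hns with hns | hns <;> norm_num at hns <;> omega

/-- Monomial elements equal modulo the centre move the coordinates alike. -/
theorem perm_eq_of_center {ρ τ : M24} {c d : Finset GolayPt} {hc : c ∈ code} {hd : d ∈ code}
    (h : (mono ρ hc)⁻¹ * mono τ hd ∈ Subgroup.center Co0) : ρ = τ := by
  refine Subtype.ext (Equiv.ext fun i => ?_)
  by_contra hne
  rcases center_eq_or _ h with e | e
  · rw [inv_mul_eq_one] at e
    have := congrArg (fun g : Co0 => ((g • frame i : leechLattice) : GolayPt → ℤ) (τ.1 i)) e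
    simp only [coe_mono_frame, Pi.single_eq_same, Pi.single_eq_of_ne (Ne.symm hne)] at this
    split_ifs at this <;> omega
  · rw [inv_mul_eq_iff_eq_mul, Subgroup.mem_center_iff.1 negOne_mem_center] at e
    have := congrArg (fun g : Co0 => ((g • frame i : leechLattice) : GolayPt → ℤ) (τ.1 i)) e
    simp only [mul_smul, negOne_smul, AddSubgroup.coe_neg, Pi.neg_apply, coe_mono_frame,
      Pi.single_eq_same, Pi.single_eq_of_ne (Ne.symm hne)] at this
    split_ifs at this <;> omega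

theorem perm_of_mk {σ : M24} {c : Finset GolayPt} (hc : c ∈ code)
    (h : (QuotientGroup.mk (mono σ hc) : Spor.Co1) * P7 * (QuotientGroup.mk (mono σ hc))⁻¹ = P7⁻¹) :
    σ * pi7 * σ⁻¹ = pi7⁻¹ := by
  have hc' : (pi7⁻¹).1 • c ∈ code := by
    have e : (pi7⁻¹).1 • code = code := MulAction.mem_stabilizer_iff.1 (pi7⁻¹).2
    rw [← e]
    exact Set.smul_mem_smul_set hc
  rw [mul_inv_eq_iff_eq_mul, P7, ← QuotientGroup.mk_inv, ← QuotientGroup.mk_mul,
    ← QuotientGroup.mk_mul, QuotientGroup.eq, ← map_inv] at h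
  have e1 : mono σ hc * Monster39.permHom pi7 = mono (σ * pi7) hc :=
    Monster39.mono_mul_mono hc empty_mem_code hc
      (by simp only [Finset.smul_finset_empty]; exact (symmDiff_bot c).symm)
  have e2 : Monster39.permHom pi7⁻¹ * mono σ hc = mono (pi7⁻¹ * σ) hc' :=
    Monster39.mono_mul_mono empty_mem_code hc hc' (bot_symmDiff _).symm
  rw [e1, e2] at h
  rw [mul_inv_eq_iff_eq_mul]
  exact perm_eq_of_center h

namespace Cf

variable {M : Monster39.Setting z Q e ψ} {x : Q} {b : G} (K0 : Cf M x b)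
include K0

theorem x_H : qG x ∈ Subgroup.centralizer ({b} : Set G) := mem_H.2 K0.bx.symm

/-- A normal two-subgroup has `z` and `x` in its centre. -/
theorem two_center {K : Subgroup G} (hK : K ≤ Subgroup.centralizer ({b} : Set G))
    (hn : ∀ h ∈ Subgroup.centralizer ({b} : Set G), ∀ k ∈ K, h * k * h⁻¹ ∈ K)
    (hp : IsPGroup 2 K) (hne : K ≠ ⊥) : z ∈ K ∧ (∀ k ∈ K, z * k = k * z) := by
  haveI : Fact (Nat.Prime 2) := ⟨Nat.prime_two⟩
  haveI : Nontrivial K := (Subgroup.nontrivial_iff_ne_bot K).2 hne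
  have hY : Nontrivial (Subgroup.center K) := hp.center_nontrivial
  set Y := (Subgroup.center K).map K.subtype with hYdef
  have hz : z ∈ Y := by
    refine K0.z_mem_two (K := Y) ?_ ?_ ((hp.to_subgroup _).map _) ?_
    · rintro _ ⟨k, -, rfl⟩
      exact hK k.2
    · rintro h hh _ ⟨k, hk, rfl⟩
      refine ⟨⟨_, hn h hh _ k.2⟩, Subgroup.mem_center_iff.2 fun u => ?_, rfl⟩
      have h1 := hn h⁻¹ (inv_mem hh) _ u.2
      rw [inv_inv] at h1
      have h2 := congrArg Subtype.val (Subgroup.mem_center_iff.1 hk ⟨_, h1⟩)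
      change h⁻¹ * (u : G) * h * (k : G) = (k : G) * (h⁻¹ * (u : G) * h) at h2
      apply Subtype.ext
      show (u : G) * (h * (k : G) * h⁻¹) = h * (k : G) * h⁻¹ * (u : G)
      calc (u : G) * (h * (k : G) * h⁻¹) = h * (h⁻¹ * (u : G) * h * (k : G)) * h⁻¹ := by group
        _ = h * ((k : G) * (h⁻¹ * (u : G) * h)) * h⁻¹ := by rw [h2]
        _ = _ := by group
    · intro h0
      rw [hYdef, Subgroup.map_eq_bot_iff_of_injective _ K.subtype_injective] at h0
      exact (Subgroup.nontrivial_iff_ne_bot _).1 hY h0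
  obtain ⟨k, hk, hkz⟩ := hz
  have hkz' : (k : G) = z := hkz
  refine ⟨hkz' ▸ k.2, fun u hu => ?_⟩
  rw [← hkz']
  exact (congrArg Subtype.val (Subgroup.mem_center_iff.1 hk ⟨u, hu⟩)).symm

/-- A normal two-subgroup is trivial. -/
theorem two_bot {K : Subgroup G} (hK : K ≤ Subgroup.centralizer ({b} : Set G))
    (hn : ∀ h ∈ Subgroup.centralizer ({b} : Set G), ∀ k ∈ K, h * k * h⁻¹ ∈ K)
    (hp : IsPGroup 2 K) : K = ⊥ := by
  by_contra hne
  obtain ⟨n, ⟨k, hk⟩, hnz, hnx⟩ := K0.exists_swap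
  -- `x` lies in the centre of any such subgroup
  have hxc : ∀ L : Subgroup G, L ≤ Subgroup.centralizer ({b} : Set G) →
      (∀ h ∈ Subgroup.centralizer ({b} : Set G), ∀ l ∈ L, h * l * h⁻¹ ∈ L) → IsPGroup 2 L → L ≠ ⊥ →
      qG x ∈ L ∧ ∀ l ∈ L, qG x * l = l * qG x := by
    intro L hL hLn hLp hLne
    obtain ⟨h1, h2⟩ := K0.conj_inv' hk hL hLn
    obtain ⟨⟨u, hu, huz⟩, hc⟩ := K0.two_center h1 h2 (hLp.map _) (by
      rwa [Ne, Subgroup.map_eq_bot_iff_of_injective _ (MulAut.conj n⁻¹).injective])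
    have huz' : n⁻¹ * u * n⁻¹⁻¹ = z := huz
    have hux : u = qG x := by
      rw [← hnz, ← huz']; group
    refine ⟨hux ▸ hu, fun l hl => ?_⟩
    have h3 := hc _ ⟨l, hl, rfl⟩
    change z * (n⁻¹ * l * n⁻¹⁻¹) = n⁻¹ * l * n⁻¹⁻¹ * z at h3
    rw [← hnz]
    calc n * z * n⁻¹ * l = n * (z * (n⁻¹ * l * n⁻¹⁻¹)) * n⁻¹ := by group
      _ = n * (n⁻¹ * l * n⁻¹⁻¹ * z) * n⁻¹ := by rw [h3]
      _ = _ := by group
  -- a second element of the third kind fixed by `b`
  obtain ⟨q1, hq1, hbq1⟩ := K0.exists_lift pi_fix_wOdd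
  obtain ⟨h, hh⟩ := M.transitive (by norm_num) K0.cls_x (⟨wOdd, sqNorm_wOdd, hq1⟩ : Monster39.Cls ψ 64 q1)
  have hh' : (h : G) * qG x * (h : G)⁻¹ = qG q1 := congrArg (fun u : Q => qG u) hh
  have hhz : (h : G) * z * (h : G)⁻¹ = z := by
    rw [Subgroup.mem_centralizer_singleton_iff.1 h.2, mul_inv_cancel_right]
  obtain ⟨c, hcz, hcx, j, hj⟩ := K0.conj_b (b' := (h : G)⁻¹ * b * h)
    (by
      have e1 : (h : G)⁻¹ * z * h = z := by
        calc (h : G)⁻¹ * z * h = (h : G)⁻¹ * ((h : G) * z * (h : G)⁻¹) * h :=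
              congrArg (fun t => (h : G)⁻¹ * t * (h : G)) hhz.symm
          _ = z := by group
      calc (h : G)⁻¹ * b * h * z = (h : G)⁻¹ * b * h * ((h : G)⁻¹ * z * h) := by rw [e1]
        _ = (h : G)⁻¹ * (b * z) * h := by group
        _ = (h : G)⁻¹ * (z * b) * h := by rw [K0.bz]
        _ = ((h : G)⁻¹ * z * h) * ((h : G)⁻¹ * b * h) := by group
        _ = _ := by rw [e1])
    (by
      have e1 : qG x = (h : G)⁻¹ * qG q1 * h := by rw [← hh']; group
      rw [e1]
      calc (h : G)⁻¹ * b * h * ((h : G)⁻¹ * qG q1 * h) = (h : G)⁻¹ * (b * qG q1) * h := by group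
        _ = (h : G)⁻¹ * (qG q1 * b) * h := by rw [hbq1]
        _ = _ := by group)
    (by
      rw [← K0.ord, show (h : G)⁻¹ * b * h = (MulAut.conj (h : G)⁻¹).toMonoidHom b by simp]
      exact orderOf_injective _ (MulAut.conj (h : G)⁻¹).injective b)
  set n2 : G := c * (h : G)⁻¹ with hn2
  have e1 : n2 * b * n2⁻¹ = b ^ j := by rw [← hj, hn2]; group
  have e2 : n2 * qG q1 * n2⁻¹ = qG x := by
    calc n2 * qG q1 * n2⁻¹ = c * ((h : G)⁻¹ * ((h : G) * qG x * (h : G)⁻¹) * h) * c⁻¹ := by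
          rw [hn2, hh']; group
      _ = c * qG x * c⁻¹ := by group
      _ = qG x := by rw [hcx, mul_inv_cancel_right]
  obtain ⟨hx1, hx2⟩ := hxc K hK hn hp hne
  obtain ⟨h1, h2⟩ := K0.conj_inv e1 hK hn
  obtain ⟨⟨u, hu, hux⟩, -⟩ := hxc _ h1 h2 (hp.map _) (by
    rwa [Ne, Subgroup.map_eq_bot_iff_of_injective _ (MulAut.conj n2).injective])
  have hux' : n2 * u * n2⁻¹ = qG x := hux
  have huq : u = qG q1 := by
    rw [← e2] at hux'
    simpa using hux'
  have hcomm : x * q1 = q1 * x := Subtype.ext (Subtype.ext (hx2 (qG q1) (by rw [← huq]; exact hu)))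
  obtain ⟨t, ht, ht2⟩ := exists_t32 M
  exact dot_frame_wOdd ((M.commute_iff ht ht2 K0.hx hq1).1 hcomm)

/-- A normal subgroup of odd order consists of powers of `b`. -/
theorem odd_le {K : Subgroup G} (hK : K ≤ Subgroup.centralizer ({b} : Set G))
    (hn : ∀ h ∈ Subgroup.centralizer ({b} : Set G), ∀ k ∈ K, h * k * h⁻¹ ∈ K)
    (hodd : ¬ 2 ∣ Nat.card K) : K ≤ Subgroup.zpowers b := by
  have hzfix : ∀ L : Subgroup G, L ≤ Subgroup.centralizer ({b} : Set G) →
      (∀ h ∈ Subgroup.centralizer ({b} : Set G), ∀ l ∈ L, h * l * h⁻¹ ∈ L) → ¬ 2 ∣ Nat.card L →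
      ∀ l ∈ L, l * z = z * l → l ∈ Subgroup.zpowers b := by
    intro L hL hLn hLo
    refine (K0.zpowers_or_z hL hLn).resolve_left fun hz => hLo ?_
    have := Subgroup.orderOf_dvd_natCard L hz
    rwa [M.orderOf_z] at this
  obtain ⟨n, ⟨k, hk⟩, hnz, hnx⟩ := K0.exists_swap
  have hxfix : ∀ l ∈ K, l * qG x = qG x * l → l ∈ Subgroup.zpowers b := by
    intro l hl hlx
    obtain ⟨h1, h2⟩ := K0.conj_inv' hk hK hn
    have h3 := hzfix _ h1 h2 (by
      rwa [Subgroup.card_map_of_injective (MulAut.conj n⁻¹).injective]) (n⁻¹ * l * n⁻¹⁻¹) ⟨l, hl, rfl⟩ (by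
      rw [← hnz] at hlx
      calc n⁻¹ * l * n⁻¹⁻¹ * z = n⁻¹ * (l * (n * z * n⁻¹)) * n := by group
        _ = n⁻¹ * (n * z * n⁻¹ * l) * n := by rw [hlx]
        _ = _ := by group)
    obtain ⟨i, hi⟩ := Subgroup.mem_zpowers_iff.1 h3
    have : l = (b ^ k) ^ i := by
      rw [← hk, conj_zpow, hi]; group
    rw [this]
    exact zpow_mem (zpow_mem (Subgroup.mem_zpowers b) k) i
  obtain ⟨q, hbq, hq⟩ := K0.exists_flip K0.x_not_center K0.bx
  have hw2 : z * qG x * (z * qG x) = 1 := by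
    have e1 : qG x * qG x = 1 := congrArg (fun u : Q => qG u) (M.sq_of_64 K0.cls_x)
    have e2 : qG x * z = z * qG x :=
      Subgroup.mem_centralizer_singleton_iff.1 (x : Subgroup.centralizer ({z} : Set G)).2
    calc z * qG x * (z * qG x) = z * (qG x * z) * qG x := by group
      _ = (z * z) * (qG x * qG x) := by rw [e2]; group
      _ = 1 := by rw [M.zz_eq, e1, one_mul]
  have e2 : qG x * z = z * qG x :=
    Subgroup.mem_centralizer_singleton_iff.1 (x : Subgroup.centralizer ({z} : Set G)).2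
  have hwfix : ∀ l ∈ K, l * (z * qG x) = z * qG x * l → l ∈ Subgroup.zpowers b := by
    intro l hl hlw
    have hl' : q⁻¹ = q⁻¹ := rfl
    have h1 := hn (qG q)⁻¹ (inv_mem (mem_H.2 hbq.symm)) l hl
    rw [inv_inv] at h1
    have h2 := hxfix _ h1 (by
      have e3 : qG q * qG x * (qG q)⁻¹ = z * qG x := by rw [hq, e2]
      calc (qG q)⁻¹ * l * qG q * qG x = (qG q)⁻¹ * (l * (qG q * qG x * (qG q)⁻¹)) * qG q := by group
        _ = (qG q)⁻¹ * (qG q * qG x * (qG q)⁻¹ * l) * qG q := by rw [e3, hlw]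
        _ = _ := by group)
    obtain ⟨i, hi⟩ := Subgroup.mem_zpowers_iff.1 h2
    have : l = b ^ i := by
      calc l = qG q * ((qG q)⁻¹ * l * qG q) * (qG q)⁻¹ := by group
        _ = qG q * b ^ i * (qG q)⁻¹ := by rw [hi]
        _ = b ^ i := by
          rw [((show Commute b (qG q) from hbq).zpow_left i).eq.symm, mul_inv_cancel_right]
    rw [this]
    exact zpow_mem (Subgroup.mem_zpowers b) i
  intro a ha
  have hcb : ∀ u ∈ Subgroup.zpowers b, ∀ c ∈ K, Commute u c := by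
    intro u hu c hc
    obtain ⟨i, rfl⟩ := Subgroup.mem_zpowers_iff.1 hu
    exact (show Commute b c from (mem_H.1 (hK hc)).symm).zpow_left i
  have hβ := K0.invert hK (show qG x * qG x = 1 from congrArg (fun u : Q => qG u) (M.sq_of_64 K0.cls_x))
    K0.bx.symm (fun c hc => hn _ K0.x_H c hc) hxfix a ha
  have hγ := K0.invert hK M.zz_eq K0.bz.symm (fun c hc => hn z K0.z_H c hc) (hzfix K hK hn hodd) a ha
  have hδ := K0.invert hK hw2
    (((show Commute z b from K0.bz.symm).mul_left (show Commute (qG x) b from K0.bx.symm)).eq)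
    (fun c hc => hn _ (mul_mem K0.z_H K0.x_H) c hc) hwfix a ha
  set β := qG x * a * (qG x)⁻¹ * a with hβd
  set γ := z * a * z⁻¹ * a with hγd
  set δ := z * qG x * a * (z * qG x)⁻¹ * a with hδd
  have hzβ : Commute z β := by
    obtain ⟨i, hi⟩ := Subgroup.mem_zpowers_iff.1 hβ
    rw [← hi]
    exact (show Commute z b from K0.bz.symm).zpow_right i
  have hsq : a * a = (β * γ⁻¹)⁻¹ * δ := by
    have ea : qG x * a * (qG x)⁻¹ = β * a⁻¹ := by rw [hβd]; group
    have ez : z * a⁻¹ * z⁻¹ = a * γ⁻¹ := by rw [hγd]; group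
    have h1 : δ = β * a * γ⁻¹ * a := by
      calc δ = z * (qG x * a * (qG x)⁻¹) * z⁻¹ * a := by rw [hδd]; group
        _ = (z * β) * (a⁻¹ * z⁻¹) * a := by rw [ea]; group
        _ = β * (z * a⁻¹ * z⁻¹) * a := by rw [hzβ.eq]; group
        _ = β * (a * γ⁻¹) * a := by rw [ez]
        _ = _ := by group
    rw [h1, show β * a * γ⁻¹ * a = β * (a * γ⁻¹) * a by group, ← (hcb _ (inv_mem hγ) a ha).eq]
    group
  have ha2 : a * a ∈ Subgroup.zpowers b := hsq ▸ mul_mem (inv_mem (mul_mem hβ (inv_mem hγ))) hδ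
  have hodda : ¬ 2 ∣ orderOf a := fun h => hodd (h.trans (Subgroup.orderOf_dvd_natCard K ha))
  obtain ⟨i, hi⟩ : Odd (orderOf a) := Nat.not_even_iff_odd.1 fun h => hodda h.two_dvd
  have : a = (a * a) ^ (i + 1) := by
    rw [← pow_two, ← pow_mul, show 2 * (i + 1) = orderOf a + 1 by omega, pow_succ, pow_orderOf_eq_one,
      one_mul]
  rw [this]
  exact pow_mem ha2 _

/-- The Fitting subgroup of the centralizer lies in the powers of `b`. -/
theorem fitting_le :
    (fittingSubgroup (Subgroup.centralizer ({b} : Set G))).map (Subgroup.centralizer ({b} : Set G)).subtype ≤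
      Subgroup.zpowers b := by
  rw [Fitting.fitting_eq_iSup_pCore, Subgroup.map_iSup]
  refine iSup_le fun p => ?_
  haveI : Fact (p : ℕ).Prime := ⟨p.2⟩
  set H := Subgroup.centralizer ({b} : Set G) with hH
  set K := (pCore (p : ℕ) H).map H.subtype with hKdef
  have hK : K ≤ H := Subgroup.map_subtype_le _
  have hn : ∀ h ∈ H, ∀ u ∈ K, h * u * h⁻¹ ∈ K := by
    rintro h hh _ ⟨u, hu, rfl⟩
    exact ⟨⟨h, hh⟩ * u * ⟨h, hh⟩⁻¹, (inferInstance : (pCore (p : ℕ) H).Normal).conj_mem _ hu _, rfl⟩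
  have hp : IsPGroup (p : ℕ) K := (Thompson.isPGroup_pCore).map _
  by_cases h2 : (p : ℕ) = 2
  · rw [K0.two_bot hK hn (h2 ▸ hp)]
    exact bot_le
  · refine K0.odd_le hK hn fun h => h2 ?_
    obtain ⟨i, hi⟩ := IsPGroup.iff_card.1 hp
    rw [hi] at h
    exact ((Nat.prime_dvd_prime_iff_eq Nat.prime_two p.2).1 (Nat.prime_two.dvd_of_dvd_pow h)).symm

/-- The layer of the centralizer of `b`, in the group. -/
def E (_ : Cf M x b) : Subgroup G :=
  (layer (Subgroup.centralizer ({b} : Set G))).map (Subgroup.centralizer ({b} : Set G)).subtype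

theorem layer_ne_bot : layer (Subgroup.centralizer ({b} : Set G)) ≠ ⊥ := by
  intro h0
  have h := Components.centralizer_generalizedFitting_le (G := Subgroup.centralizer ({b} : Set G))
  rw [generalizedFittingSubgroup, h0, bot_sup_eq] at h
  apply K0.z_not_zpowers
  refine K0.fitting_le ⟨⟨z, K0.z_H⟩, h (Subgroup.mem_centralizer_iff.2 fun u hu => Subtype.ext ?_), rfl⟩
  obtain ⟨i, hi⟩ := Subgroup.mem_zpowers_iff.1 (K0.fitting_le ⟨u, hu, rfl⟩)
  show (u : G) * z = z * u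
  change b ^ i = (u : G) at hi
  rw [← hi]
  exact ((show Commute b z from K0.bz).zpow_left i).eq

theorem E_spec : K0.E ≤ Subgroup.centralizer ({b} : Set G) ∧
    (∀ h ∈ Subgroup.centralizer ({b} : Set G), ∀ u ∈ K0.E, h * u * h⁻¹ ∈ K0.E) ∧
    ⁅K0.E, K0.E⁆ = K0.E ∧ K0.E ≠ ⊥ := by
  refine ⟨Subgroup.map_subtype_le _, ?_, ?_, ?_⟩
  · rintro h hh _ ⟨u, hu, rfl⟩
    exact ⟨⟨h, hh⟩ * u * ⟨h, hh⟩⁻¹,
      (inferInstance : (layer (Subgroup.centralizer ({b} : Set G))).Normal).conj_mem _ hu _, rfl⟩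
  · rw [E, ← Subgroup.map_commutator, Components.layer_commutator_eq_self]
  · rw [E, Ne, Subgroup.map_eq_bot_iff_of_injective _ (Subgroup.subtype_injective _)]
    exact K0.layer_ne_bot

theorem z_x_E : z ∈ K0.E ∧ qG x ∈ K0.E := by
  obtain ⟨h1, h2, h3, h4⟩ := K0.E_spec
  refine ⟨K0.z_mem_perfect h1 h2 h3 h4, ?_⟩
  obtain ⟨n, ⟨k, hk⟩, hnz, hnx⟩ := K0.exists_swap
  obtain ⟨g1, g2⟩ := K0.conj_inv' hk h1 h2
  obtain ⟨u, hu, huz⟩ := K0.z_mem_perfect g1 g2 (by rw [← Subgroup.map_commutator, h3])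
    (by rwa [Ne, Subgroup.map_eq_bot_iff_of_injective _ (MulAut.conj n⁻¹).injective])
  have huz' : n⁻¹ * u * n⁻¹⁻¹ = z := huz
  have : u = qG x := by rw [← hnz, ← huz']; group
  exact this ▸ hu

/-- An element centralizing the layer does not invert `b`. -/
theorem no_invert_of_cent {u : G} (hu : ∀ v ∈ K0.E, u * v * u⁻¹ = v) : u * b * u⁻¹ ≠ b⁻¹ := by
  intro hub
  obtain ⟨hz, hx⟩ := K0.z_x_E
  have huz : u * z = z * u := mul_inv_eq_iff_eq_mul.1 (hu z hz)
  let uC : Subgroup.centralizer ({z} : Set G) := ⟨u, Subgroup.mem_centralizer_singleton_iff.2 huz⟩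
  obtain ⟨g, hg⟩ := QuotientGroup.mk_surjective (Monster39.proj e uC)
  have hgf : Cong ((g • frame none : leechLattice) : GolayPt → ℤ) (frame none : GolayPt → ℤ) := by
    have h1 := M.hψ.2.2.2 uC g hg (frame none) x K0.hx
    have h2 : cj uC x = x := Subtype.ext (Subtype.ext (hu _ hx))
    have h3 : ψ (g • frame none) = QuotientGroup.mk (cj uC x) := h1
    rw [h2, ← K0.hx] at h3
    exact (M.map_eq_iff _ _).1 h3
  obtain ⟨σ, c, hc, rfl⟩ := exists_mono_of_cong hgf
  have hP : (QuotientGroup.mk (mono σ hc) : Spor.Co1) * P7 * (QuotientGroup.mk (mono σ hc))⁻¹ = P7⁻¹ := by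
    rw [hg, ← K0.proj_bC, ← map_inv, ← map_inv, ← map_mul, ← map_mul]
    exact congrArg _ (Subtype.ext hub)
  exact no_inverter σ (perm_of_mk hc hP)

end Cf

end Cfsg.Agent.MonSeven5
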